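/-
Involutory automorphisms of `PSL₂(q)`, `q` odd, whose fixed points contain no four group.

Main results:
* `klein_field`, `klein_inner`, `exists_field_conj` : the other involutory automorphisms fix a four group
* `dihedral_of_det_nonsquare`, `exists_gl_conj`     : diagonal ones fix a dihedral group of order `2n`, `n` odd
* `outer_of_noKlein`
-/
import Cfsg.Agent.EqLemmas
import Cfsg.Agent.Lib.AutPSL.Count
import Cfsg.Agent.Lib.AutPSL.GraphModels
import Cfsg.Agent.Lib.PSL2.Existence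
import Cfsg.Agent.Lib.PSL2.Conjugacy
import Cfsg.Agent.Lib.PSL2.Involutions

set_option autoImplicit false
set_option linter.unusedSectionVars false

namespace Cfsg.Agent.GWCons

open Matrix Cfsg.Agent.PSL2
open Cfsg.Agent.AutPSL (semi semi_proj semi_proj_eq semi_mul semi_one semi_inv semi_eq_semi semi_refl_mul semi_eq_one_iff proj)

/-- The fixed points of `α` contain no four group. -/
def NoKlein {L : Type*} [Group L] (α : MulAut L) : Prop :=
  ∀ x y : L, α x = x → α y = y → x * x = 1 → y * y = 1 → x * y = y * x → x ≠ 1 → y ≠ 1 → x = y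

theorem noKlein_conj {L : Type*} [Group L] {α β : MulAut L} (h : NoKlein α) :
    NoKlein (β * α * β⁻¹) := by
  intro x y hx hy x2 y2 hxy x1 y1
  have key : ∀ z, (β * α * β⁻¹) z = z → α (β⁻¹ z) = β⁻¹ z := fun z hz => by
    apply β.injective
    simpa using hz
  refine β⁻¹.injective (h _ _ (key x hx) (key y hy) ?_ ?_ ?_ ?_ ?_)
  · rw [← map_mul, x2, map_one]
  · rw [← map_mul, y2, map_one]
  · rw [← map_mul, hxy, map_mul]
  · exact fun e => x1 ((β⁻¹).injective (e.trans (map_one _).symm))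
  · exact fun e => y1 ((β⁻¹).injective (e.trans (map_one _).symm))

variable {F : Type*} [Field F] [Finite F]

theorem proj_mul_comm_of_neg {u v : SL2 F} (h : v * u = -(u * v)) :
    proj (Fin 2) F u * proj (Fin 2) F v = proj (Fin 2) F v * proj (Fin 2) F u := by
  rw [← map_mul, ← map_mul, h]
  exact mk_eq_mk_iff.2 (Or.inr (neg_neg _).symm)

theorem proj_sq_of_tr_zero {u : SL2 F} (h : tr u = 0) : proj (Fin 2) F u * proj (Fin 2) F u = 1 := by
  rw [← map_mul]
  exact mk_eq_one_iff.2 (Or.inr (sq_eq_neg_one_of_tr_zero h))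

theorem proj_ne_one_of_tr_zero (h2 : (2 : F) ≠ 0) {u : SL2 F} (h : tr u = 0) : proj (Fin 2) F u ≠ 1 := by
  intro e
  rcases mk_eq_one_iff.1 e with rfl | rfl
  · exact h2 (by rwa [tr_one] at h)
  · exact h2 (by rwa [tr_neg, tr_one, neg_eq_zero] at h)

/-- The standard field automorphisms fix a four group. -/
theorem klein_field (h2 : (2 : F) ≠ 0) (σ : F ≃+* F) :
    ¬ NoKlein (semi (1 : GL (Fin (0 + 2)) F) σ) := by
  intro h
  let R : Subfield F := (σ : F →+* F).eqLocusField (RingHom.id F)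
  have hR : ∀ {x : F}, x ∈ R → σ x = x := fun hx => hx
  have h2R : (2 : R) ≠ 0 := fun e => h2 ((map_ofNat R.subtype 2).symm.trans ((congrArg R.subtype e).trans (map_zero _)))
  obtain ⟨a, b, hab⟩ := exists_sq_add_sq_eq (F := R) h2R (-1)
  have hab' : (a : F) ^ 2 + (b : F) ^ 2 = -1 := by simpa using congrArg Subtype.val hab
  let u : SL2 F := ⟨!![0, 1; -1, 0], by simp [Matrix.det_fin_two_of]⟩
  let v : SL2 F := ⟨!![(a : F), b; b, -a], by
    rw [Matrix.det_fin_two_of]; linear_combination -hab'⟩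
  have hu : tr u = 0 := by simp [tr, u]
  have hv : tr v = 0 := by simp [tr, v]
  have hfix : ∀ s : SL2 F, (∀ i j, σ (s.1 i j) = s.1 i j) →
      semi (1 : GL (Fin (0 + 2)) F) σ (proj (Fin 2) F s) = proj (Fin 2) F s := fun s hs => by
    refine semi_proj_eq _ _ ?_
    have : (s : Matrix (Fin 2) (Fin 2) F).map σ = s := Matrix.ext fun i j => hs i j
    simp [this]
  have := h (proj (Fin 2) F u) (proj (Fin 2) F v)
    (hfix u fun i j => by fin_cases i <;> fin_cases j <;> simp [u])
    (hfix v fun i j => by fin_cases i <;> fin_cases j <;> simp [v, hR a.2, hR b.2])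
    (proj_sq_of_tr_zero hu) (proj_sq_of_tr_zero hv)
    (proj_mul_comm_of_neg (by
      apply Subtype.ext
      rw [Matrix.SpecialLinearGroup.coe_neg, Matrix.SpecialLinearGroup.coe_mul, Matrix.SpecialLinearGroup.coe_mul]
      ext i j
      fin_cases i <;> fin_cases j <;>
        simp [u, v, Matrix.mul_apply, Fin.sum_univ_two]))
    (proj_ne_one_of_tr_zero h2 hu) (proj_ne_one_of_tr_zero h2 hv)
  rcases mk_eq_mk_iff.1 this with e | e <;>
    · replace e := congrArg Subtype.val e
      try simp only [Matrix.SpecialLinearGroup.coe_neg] at e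
      have e00 := congrArg (fun s : Matrix (Fin 2) (Fin 2) F => s 0 0) e
      have e01 := congrArg (fun s : Matrix (Fin 2) (Fin 2) F => s 0 1) e
      have e10 := congrArg (fun s : Matrix (Fin 2) (Fin 2) F => s 1 0) e
      simp [u, v] at e00 e01 e10
      exact h2 (by first | linear_combination e01 - e10 | linear_combination e01 + e10)

/-- An inner involution fixes a four group. -/
theorem klein_inner (h2 : (2 : F) ≠ 0) {s : SL2 F} (hs : tr s = 0) :
    ¬ NoKlein (semi (Matrix.SpecialLinearGroup.toGL s : GL (Fin (0 + 2)) F) (RingEquiv.refl F)) := by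
  intro h
  obtain ⟨w, hw, hws⟩ := exists_inverting_elt (g := s) (by
    rw [hs, zero_pow two_ne_zero, show (4 : F) = 2 * 2 by norm_num]; exact (mul_ne_zero h2 h2).symm)
  have hsinv : s⁻¹ = -s := inv_eq_of_mul_eq_one_right (by rw [mul_neg, sq_eq_neg_one_of_tr_zero hs, neg_neg])
  have hwc : w * s = -(s * w) := by
    have := conj_eq_inv_of_tr_zero hw hws
    rw [mul_inv_eq_iff_eq_mul, hsinv, neg_mul] at this
    exact this
  have hcomm : proj (Fin 2) F s * proj (Fin 2) F w = proj (Fin 2) F w * proj (Fin 2) F s :=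
    proj_mul_comm_of_neg hwc
  have hfix : ∀ x : PSL2 F, proj (Fin 2) F s * x = x * proj (Fin 2) F s →
      semi (Matrix.SpecialLinearGroup.toGL s : GL (Fin (0 + 2)) F) (RingEquiv.refl F) x = x := fun x hx => by
    rw [← AutPSL.conj_eq_semi]
    show proj (Fin 2) F s * x * (proj (Fin 2) F s)⁻¹ = x
    rw [hx, mul_inv_cancel_right]
  have := h (proj (Fin 2) F s) (proj (Fin 2) F w) (hfix _ rfl) (hfix _ hcomm)
    (proj_sq_of_tr_zero hs) (proj_sq_of_tr_zero hw) hcomm
    (proj_ne_one_of_tr_zero h2 hs) (proj_ne_one_of_tr_zero h2 hw)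
  rcases mk_eq_mk_iff.1 this with e | e
  · rw [← e, sq_eq_neg_one_of_tr_zero hs, tr_neg, tr_one, neg_eq_zero] at hws
    exact h2 hws
  · rw [e, mul_neg, tr_neg, sq_eq_neg_one_of_tr_zero hw, tr_neg, tr_one, neg_neg] at hws
    exact h2 hws

/-- A semilinear involutory automorphism is conjugate to the field automorphism. -/
theorem exists_field_conj (h2 : (2 : F) ≠ 0) {σ : F ≃+* F} (hσ : σ ≠ RingEquiv.refl F)
    {g : GL (Fin (0 + 2)) F} (h : semi g σ * semi g σ = 1) :
    ∃ β : MulAut (PSL2 F), semi g σ = β * semi (1 : GL (Fin (0 + 2)) F) σ * β⁻¹ := by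
  obtain ⟨hσσ, hc⟩ := semi_eq_one_iff.1 ((semi_mul g g σ σ).symm.trans h)
  have hss : ∀ x, σ (σ x) = x := fun x => RingEquiv.congr_fun hσσ x
  obtain ⟨l, hl⟩ : ∃ l : Fˣ, GeneralLinearGroup.scalar _ l = g * GeneralLinearGroup.map (σ : F →+* F) g := by
    rw [GeneralLinearGroup.center_eq_range_scalar] at hc
    exact hc
  set M : Matrix (Fin 2) (Fin 2) F := (g : Matrix (Fin (0 + 2)) (Fin (0 + 2)) F) with hM
  have hMl : M * M.map σ = (l : F) • 1 := by
    have := congrArg (fun z : GL (Fin (0 + 2)) F => (z : Matrix (Fin (0 + 2)) (Fin (0 + 2)) F)) hl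
    simp only [GeneralLinearGroup.coe_scalar, Units.val_mul] at this
    rw [smul_one_eq_diagonal]
    exact this.symm
  have hdetM : M.det ≠ 0 := (GeneralLinearGroup.det g).ne_zero
  have hlfix : σ (l : F) = l := by
    have h1 : M.map σ * M = σ (l : F) • 1 := by
      have := congrArg (fun z : Matrix (Fin 2) (Fin 2) F => z.map σ) hMl
      simp only [Matrix.map_mul, Matrix.map_map, smul_one_eq_diagonal, Matrix.diagonal_map (map_zero σ)] at this
      rw [smul_one_eq_diagonal]
      simpa [Function.comp_def, hss] using this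
    have h3 : (l : F) • M = σ (l : F) • M := by
      calc (l : F) • M = (M * M.map σ) * M := by rw [hMl, Matrix.smul_mul, Matrix.one_mul]
        _ = M * (M.map σ * M) := Matrix.mul_assoc _ _ _
        _ = σ (l : F) • M := by rw [h1, Matrix.mul_smul, Matrix.mul_one]
    rw [← sub_eq_zero, ← sub_smul, smul_eq_zero] at h3
    rcases h3 with h3 | h3
    · exact (sub_eq_zero.1 h3).symm
    · exact absurd (by rw [h3]; simp) hdetM
  obtain ⟨θ, hθ0, hθ⟩ : ∃ θ : F, θ ≠ 0 ∧ σ θ = -θ := by
    obtain ⟨x, hx⟩ : ∃ x, σ x ≠ x := by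
      by_contra hall
      exact hσ (RingEquiv.ext fun x => not_not.1 fun hx => hall ⟨x, hx⟩)
    exact ⟨x - σ x, sub_ne_zero.2 (Ne.symm hx), by rw [map_sub, hss]; ring⟩
  let R : Subfield F := (σ : F →+* F).eqLocusField (RingHom.id F)
  have hR : ∀ {x : F}, x ∈ R → σ x = x := fun hx => hx
  -- the norm is surjective
  obtain ⟨μ, hμ⟩ : ∃ μ : F, μ * σ μ = l := by
    let e : R := ⟨θ ^ 2, by show σ (θ ^ 2) = θ ^ 2; rw [map_pow, hθ, neg_sq]⟩
    let l' : R := ⟨(l : F), hlfix⟩
    have he0 : e ≠ 0 := fun h0 => by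
      have := congrArg Subtype.val h0
      exact hθ0 (by simpa [e] using this)
    have h2R : (2 : R) ≠ 0 := fun h0 => h2 ((map_ofNat R.subtype 2).symm.trans ((congrArg R.subtype h0).trans (map_zero _)))
    have := Fintype.ofFinite R
    have hne : ringChar R ≠ 2 := by
      intro hc
      have : CharP R 2 := ringChar.of_eq hc
      exact h2R (by exact_mod_cast CharP.cast_eq_zero R 2)
    obtain ⟨X, Y, hXY⟩ := FiniteField.exists_root_sum_quadratic
      (f := (Polynomial.X ^ 2 : Polynomial R))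
      (g := Polynomial.C (-e) * Polynomial.X ^ 2 + Polynomial.C (-l')) (Polynomial.degree_X_pow 2)
      (by rw [Polynomial.degree_add_C (by rw [Polynomial.degree_C_mul_X_pow 2 (neg_ne_zero.2 he0)]; decide),
        Polynomial.degree_C_mul_X_pow 2 (neg_ne_zero.2 he0)]; rfl)
      (FiniteField.odd_card_of_char_ne_two hne)
    have hXY' := congrArg Subtype.val hXY
    simp [e, l'] at hXY'
    refine ⟨(X : F) + (Y : F) * θ, ?_⟩
    rw [map_add, map_mul, hθ, hR X.2, hR Y.2]
    linear_combination hXY'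
  have hμ0 : μ ≠ 0 := fun e => l.ne_zero (by rw [← hμ, e, zero_mul])
  have hσμ : σ μ ≠ 0 := σ.map_ne_zero_iff.2 hμ0
  set M' : Matrix (Fin 2) (Fin 2) F := μ⁻¹ • M with hM'
  have hM'1 : M' * M'.map σ = 1 := by
    have : M'.map σ = (σ μ)⁻¹ • M.map σ := by
      ext i j; simp [hM']
    rw [this, hM', Matrix.smul_mul, Matrix.mul_smul, hMl, smul_smul, smul_smul, ← hμ]
    rw [show μ⁻¹ * (σ μ)⁻¹ * (μ * σ μ) = 1 by field_simp, one_smul]
  -- Hilbert 90
  obtain ⟨c, hc⟩ : ∃ c : F, (c • (1 : Matrix (Fin 2) (Fin 2) F) + σ c • M').det ≠ 0 := by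
    by_contra hall
    push Not at hall
    set D := M'.det with hD
    set T := M' 0 0 + M' 1 1 with hT
    have hq : ∀ c, c * c + c * σ c * T + σ c * σ c * D = 0 := fun c => by
      rw [← hall c, hD, hT, Matrix.det_fin_two, Matrix.det_fin_two]
      simp
      ring
    have hD0 : D ≠ 0 := fun e => by
      have := congrArg Matrix.det hM'1
      rw [Matrix.det_mul, ← hD, e, zero_mul, Matrix.det_one] at this
      exact zero_ne_one this
    have e0 := hq 1
    have e1 := hq (1 + θ)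
    have e2 := hq (1 - θ)
    simp [hθ] at e0 e1 e2
    -- `e1 - e2`, `e1 + e2`
    have h4 : (1 : F) - D = 0 := by
      have : 4 * θ * (1 - D) = 0 := by linear_combination e1 - e2
      rcases mul_eq_zero.1 this with h | h
      · exact absurd h (mul_ne_zero (by rw [show (4 : F) = 2 * 2 by norm_num]; exact mul_ne_zero h2 h2) hθ0)
      · exact h
    have h5 : 8 * θ ^ 2 = 0 := by linear_combination e1 + e2 - 2 * e0 + 2 * θ ^ 2 * (e0 + 2 * h4)
    rcases mul_eq_zero.1 h5 with h | h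
    · exact mul_ne_zero (mul_ne_zero h2 h2) h2 (by linear_combination h)
    · exact hθ0 (sq_eq_zero_iff.1 h)
  set H : Matrix (Fin 2) (Fin 2) F := c • 1 + σ c • M' with hH
  have hσH : M' * H.map σ = H := by
    have : H.map σ = σ c • 1 + c • M'.map σ := by
      ext i j
      by_cases hij : i = j <;> simp [hH, hij, hss]
    rw [this, Matrix.mul_add, Matrix.mul_smul, Matrix.mul_smul, Matrix.mul_one, hM'1, hH, add_comm]
  let h' : GL (Fin (0 + 2)) F := GeneralLinearGroup.mkOfDetNeZero H hc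
  refine ⟨semi h' (RingEquiv.refl F), ?_⟩
  rw [eq_mul_inv_iff_mul_eq, semi_mul, semi_mul, semi_eq_semi]
  refine ⟨RingEquiv.ext fun x => rfl, ?_⟩
  rw [GeneralLinearGroup.center_eq_range_scalar]
  refine ⟨Units.mk0 μ⁻¹ (inv_ne_zero hμ0), ?_⟩
  rw [eq_inv_mul_iff_mul_eq]
  refine Units.ext ?_
  simp only [Units.val_mul, GeneralLinearGroup.coe_scalar, Units.val_mk0, map_one, mul_one]
  show M * H.map σ * Matrix.scalar (Fin 2) μ⁻¹ = H
  rw [Matrix.scalar_apply, ← smul_one_eq_diagonal, Matrix.mul_smul, Matrix.mul_one, ← Matrix.smul_mul]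
  exact hσH

/-- Elements of `GL₂` with trace zero and determinants in the same nonsquare class are conjugate
up to scalars. -/
theorem exists_gl_conj {M M' : Matrix (Fin 2) (Fin 2) F} (ht : M 0 0 + M 1 1 = 0)
    (ht' : M' 0 0 + M' 1 1 = 0) (hd : ¬ IsSquare M.det) (hd' : ¬ IsSquare M'.det) :
    ∃ (P : GL (Fin (0 + 2)) F) (r : Fˣ),
      M * (P : Matrix (Fin 2) (Fin 2) F) = (r : F) • ((P : Matrix (Fin 2) (Fin 2) F) * M') := by
  obtain ⟨r, hr0, hr⟩ : ∃ r : F, r ≠ 0 ∧ M.det = r * r * M'.det := by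
    have := Fintype.ofFinite F
    obtain ⟨k, hk⟩ : IsSquare (M.det * M'.det) := AutPSL.isSquare_mul_of_nonsq hd hd'
    have h0 : M'.det ≠ 0 := fun e => hd' (by rw [e]; exact ⟨0, (mul_zero _).symm⟩)
    have h1 : M.det ≠ 0 := fun e => hd (by rw [e]; exact ⟨0, (mul_zero _).symm⟩)
    refine ⟨k / M'.det, div_ne_zero ?_ h0, ?_⟩
    · intro e; rw [e, mul_zero] at hk; exact mul_ne_zero h1 h0 hk
    · field_simp; linear_combination hk
  have key : ∀ A : Matrix (Fin 2) (Fin 2) F, A 0 0 + A 1 1 = 0 → ¬ IsSquare A.det →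
      ∃ Q : Matrix (Fin 2) (Fin 2) F, Q.det ≠ 0 ∧ A * Q = Q * !![0, -A.det; 1, 0] := by
    intro A hA hdA
    by_cases hc : A 1 0 = 0
    · by_cases hb : A 0 1 = 0
      · refine ⟨!![1, A 0 0; 1, A 1 1], ?_, ?_⟩
        · rw [Matrix.det_fin_two_of]
          intro e
          apply hdA
          rw [Matrix.det_fin_two, hb, hc, show A 1 1 = A 0 0 by linear_combination e]
          exact ⟨A 0 0, by ring⟩
        · ext i j
          fin_cases i <;> fin_cases j <;> simp [Matrix.mul_apply, Fin.sum_univ_two, Matrix.det_fin_two, hb, hc]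
          · linear_combination A 0 0 * hA
          · linear_combination A 1 1 * hA
      · refine ⟨!![0, A 0 1; 1, A 1 1], ?_, ?_⟩
        · rw [Matrix.det_fin_two_of]; simpa using hb
        · ext i j
          fin_cases i <;> fin_cases j <;> simp [Matrix.mul_apply, Fin.sum_univ_two, Matrix.det_fin_two, hc]
          · linear_combination A 0 1 * hA
          · linear_combination A 1 1 * hA
    · refine ⟨!![1, A 0 0; 0, A 1 0], ?_, ?_⟩
      · rw [Matrix.det_fin_two_of]; simpa using hc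
      · ext i j
        fin_cases i <;> fin_cases j <;> simp [Matrix.mul_apply, Fin.sum_univ_two, Matrix.det_fin_two]
        · linear_combination A 0 0 * hA
        · linear_combination A 1 0 * hA
  obtain ⟨Q, hQ, hMQ⟩ := key M ht hd
  have hrd : (r • M').det = M.det := by rw [Matrix.det_smul, hr, Fintype.card_fin]; ring
  obtain ⟨Q', hQ', hMQ'⟩ := key (r • M') (by simp; linear_combination r * ht') (by rwa [hrd])
  rw [hrd] at hMQ'
  set q : GL (Fin (0 + 2)) F := GeneralLinearGroup.mkOfDetNeZero Q hQ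
  set q' : GL (Fin (0 + 2)) F := GeneralLinearGroup.mkOfDetNeZero Q' hQ'
  refine ⟨q * q'⁻¹, Units.mk0 r hr0, ?_⟩
  rw [Units.val_mul, Units.val_mk0, ← Matrix.mul_assoc]
  show M * Q * ((q'⁻¹ : GL (Fin (0 + 2)) F) : Matrix (Fin 2) (Fin 2) F) = _
  rw [hMQ, Matrix.mul_assoc, Matrix.mul_assoc, ← Matrix.mul_smul, ← Matrix.mul_smul]
  congr 1
  have hinv : ((q'⁻¹ : GL (Fin (0 + 2)) F) : Matrix (Fin 2) (Fin 2) F) * Q' = 1 := q'.inv_mul
  calc !![0, -M.det; 1, 0] * ((q'⁻¹ : GL (Fin (0 + 2)) F) : Matrix (Fin 2) (Fin 2) F)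
      = (((q'⁻¹ : GL (Fin (0 + 2)) F) : Matrix (Fin 2) (Fin 2) F) * Q') * !![0, -M.det; 1, 0] *
          ((q'⁻¹ : GL (Fin (0 + 2)) F) : Matrix (Fin 2) (Fin 2) F) := by rw [hinv, Matrix.one_mul]
    _ = ((q'⁻¹ : GL (Fin (0 + 2)) F) : Matrix (Fin 2) (Fin 2) F) * ((Q' * !![0, -M.det; 1, 0]) *
          ((q'⁻¹ : GL (Fin (0 + 2)) F) : Matrix (Fin 2) (Fin 2) F)) := by simp only [Matrix.mul_assoc]
    _ = _ := by
      rw [← hMQ', Matrix.mul_assoc]
      have : Q' * ((q'⁻¹ : GL (Fin (0 + 2)) F) : Matrix (Fin 2) (Fin 2) F) = 1 := q'.mul_inv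
      rw [this, Matrix.mul_one]

/-- A trace zero element with nonsquare determinant centralises a dihedral group of order `2n`. -/
theorem exists_model {n : ℕ} (hn : 3 ≤ n) (hodd : Odd n) (h2 : (2 : F) ≠ 0)
    (hside : 2 * n + 1 = Nat.card F ∨ 2 * n = Nat.card F + 1) :
    ∃ g : GL (Fin (0 + 2)) F, (g : Matrix (Fin (0 + 2)) (Fin (0 + 2)) F) 0 0 + (g : Matrix (Fin (0 + 2)) (Fin (0 + 2)) F) 1 1 = 0 ∧
      ¬ IsSquare (g : Matrix (Fin (0 + 2)) (Fin (0 + 2)) F).det ∧
      ∃ D : Subgroup (PSL2 F), Nonempty (D ≃* DihedralGroup n) ∧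
        ∀ x ∈ D, semi g (RingEquiv.refl F) x = x := by
  obtain ⟨p, hp⟩ := CharP.exists F
  have : Fact p.Prime := ⟨CharP.char_is_prime F p⟩
  obtain ⟨a, ha, hqn, ⟨rfl, -, -, -⟩ | ⟨-, ho, hd, -⟩⟩ := q_cases (F := F) p
  · exact absurd (CharP.cast_eq_zero F 2) (by exact_mod_cast h2)
  rw [Nat.odd_iff] at ho
  have hq1 : 1 < Nat.card F := Finite.one_lt_card
  obtain ⟨x, hx⟩ := exists_psl_orderOf (F := F) p (m := n) (Or.inr (by
    rw [hd]
    rcases hside with h | h
    · exact Or.inl (dvd_of_eq (by omega))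
    · exact Or.inr (dvd_of_eq (by omega))))
  have hpn : ¬ p ∣ n := by
    intro h
    have hpq : p ∣ Nat.card F := hqn ▸ dvd_pow_self p (by omega)
    have hp2 : p ∣ 2 * n := h.mul_left 2
    rcases hside with e | e
    · exact (Fact.out : p.Prime).not_dvd_one ((Nat.dvd_add_right hp2).1 (e ▸ hpq))
    · exact (Fact.out : p.Prime).not_dvd_one ((Nat.dvd_add_right hpq).1 (e ▸ hp2))
  obtain ⟨y, rfl⟩ := QuotientGroup.mk_surjective x
  have hss : tr y ^ 2 ≠ 4 := tr_sq_ne_four_of_not_dvd (p := p) (by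
    rw [hx]
    intro h
    rcases (Fact.out : p.Prime).eq_one_or_self_of_dvd n h with e | e
    · omega
    · exact hpn (e ▸ dvd_rfl))
  set M : Matrix (Fin 2) (Fin 2) F := y.1 - (tr y / 2) • 1 with hM
  have htM : M 0 0 + M 1 1 = 0 := by
    simp [hM, tr]
    field_simp
    ring
  have h4 : (4 : F) ≠ 0 := by rw [show (4 : F) = 2 * 2 by norm_num]; exact mul_ne_zero h2 h2
  have hdM : M.det = 1 - tr y ^ 2 / 4 := by
    have := det_eq y
    rw [Matrix.det_fin_two]
    simp [hM, tr]
    field_simp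
    linear_combination this * 16
  have hdM0 : M.det ≠ 0 := by
    rw [hdM, sub_ne_zero, ne_comm, Ne, div_eq_iff h4, one_mul]
    exact hss
  have hMy : M * y.1 = y.1 * M := by
    rw [hM, Matrix.sub_mul, Matrix.mul_sub, Matrix.smul_mul, Matrix.mul_smul, Matrix.one_mul, Matrix.mul_one]
  -- not an inner automorphism
  have hns : ¬ IsSquare M.det := by
    rintro ⟨e, he⟩
    have he0 : e ≠ 0 := fun h => hdM0 (by rw [he, h, mul_zero])
    let s : SL2 F := ⟨e⁻¹ • M, by rw [Matrix.det_smul, he, Fintype.card_fin]; field_simp⟩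
    have hs : tr s = 0 := by
      simp only [tr, s]
      simp
      linear_combination e⁻¹ * htM
    have hzo : orderOf (proj (Fin 2) F s) = 2 :=
      orderOf_eq_prime (by rw [pow_two]; exact proj_sq_of_tr_zero hs) (proj_ne_one_of_tr_zero h2 hs)
    have hsy : s * y = y * s := Subtype.ext (by
      show (e⁻¹ • M) * y.1 = y.1 * (e⁻¹ • M)
      rw [Matrix.smul_mul, Matrix.mul_smul, hMy])
    have hcom : Commute (proj (Fin 2) F s) (QuotientGroup.mk y : PSL2 F) := by
      show proj (Fin 2) F s * proj (Fin 2) F y = proj (Fin 2) F y * proj (Fin 2) F s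
      rw [← map_mul, ← map_mul, hsy]
    have hord := hcom.orderOf_mul_eq_mul_orderOf_of_coprime (by
      rw [hzo, hx]; exact Nat.coprime_two_left.2 hodd)
    rw [hzo, hx] at hord
    rcases psl_orderOf_cases p (proj (Fin 2) F s * (QuotientGroup.mk y : PSL2 F)) with h | h | h <;>
      rw [hord] at h
    · rw [hd] at h
      obtain ⟨c, hc⟩ := h
      rcases c with _ | c
      · rcases hside with h' | h' <;> omega
      · rcases hside with h' | h' <;> nlinarith [Nat.div_mul_le_self (Nat.card F - 1) 2, Nat.sub_le (Nat.card F) 1]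
    · rw [hd] at h
      obtain ⟨c, hc⟩ := h
      rcases c with _ | c
      · rcases hside with h' | h' <;> omega
      · rcases hside with h' | h' <;> nlinarith [Nat.div_mul_le_self (Nat.card F + 1) 2]
    · rcases (Fact.out : p.Prime).eq_one_or_self_of_dvd _ h with e | e
      · omega
      · have hpq : p ∣ Nat.card F := hqn ▸ dvd_pow_self p (by omega)
        have : 2 ∣ Nat.card F := (e ▸ Dvd.intro n rfl : 2 ∣ p).trans hpq
        omega
  obtain ⟨w, hw, hwy⟩ := exists_inverting_elt hss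
  have hinv := conj_eq_inv_of_tr_zero hw hwy
  have hwM : M * w.1 = -(w.1 * M) := by
    have h1 : (w * y).1 = (y⁻¹ * w).1 := by
      rw [mul_inv_eq_iff_eq_mul] at hinv
      rw [hinv]
    have hyinv : (y⁻¹ : SL2 F).1 = tr y • 1 - y.1 := by
      rw [Matrix.SpecialLinearGroup.coe_inv, Matrix.adjugate_fin_two]
      ext i j
      fin_cases i <;> fin_cases j <;> simp [tr]
    rw [Matrix.SpecialLinearGroup.coe_mul, Matrix.SpecialLinearGroup.coe_mul, hyinv, Matrix.sub_mul,
      Matrix.smul_mul, Matrix.one_mul] at h1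
    rw [hM, Matrix.sub_mul, Matrix.mul_sub, Matrix.smul_mul, Matrix.mul_smul, Matrix.one_mul, Matrix.mul_one,
      h1, neg_sub]
    obtain ⟨c, hc⟩ : ∃ c, tr y = c + c := ⟨tr y / 2, by field_simp; ring⟩
    rw [hc, show (c + c) / 2 = c by field_simp; ring, add_smul]
    abel
  let g : GL (Fin (0 + 2)) F := GeneralLinearGroup.mkOfDetNeZero M hdM0
  refine ⟨g, htM, hns, Subgroup.closure ({proj (Fin 2) F w, proj (Fin 2) F w * QuotientGroup.mk y} : Set (PSL2 F)), ?_, ?_⟩
  · have ht2 := proj_sq_of_tr_zero (F := F) hw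
    have ht1 := proj_ne_one_of_tr_zero h2 hw
    have hy2 : proj (Fin 2) F w * QuotientGroup.mk y * (proj (Fin 2) F w * QuotientGroup.mk y) = 1 :=
      proj_sq_of_tr_zero (F := F) hwy
    have hy1 : proj (Fin 2) F w * QuotientGroup.mk y ≠ 1 := proj_ne_one_of_tr_zero (F := F) h2 hwy
    have hne : proj (Fin 2) F w ≠ proj (Fin 2) F w * QuotientGroup.mk y := by
      intro e
      rw [left_eq_mul] at e
      rw [e, orderOf_one] at hx
      omega
    exact ⟨(Involution.dihedralEquiv (Involution.orderOf_of_sq ht2 ht1)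
      (Involution.orderOf_of_sq hy2 hy1) hne).symm.trans
      (by rw [← mul_assoc, ht2, one_mul, hx])⟩
  · have hfy : semi g (RingEquiv.refl F) (QuotientGroup.mk y) = (QuotientGroup.mk y : PSL2 F) := by
      refine semi_proj_eq _ _ ?_
      show y.1 = M * y.1.map _ * ((g⁻¹ : GL (Fin (0 + 2)) F) : Matrix (Fin 2) (Fin 2) F)
      rw [RingEquiv.coe_refl, Matrix.map_id, hMy, Matrix.mul_assoc]
      rw [show M * ((g⁻¹ : GL (Fin (0 + 2)) F) : Matrix (Fin 2) (Fin 2) F) = 1 from g.mul_inv, Matrix.mul_one]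
    have hfw : semi g (RingEquiv.refl F) (proj (Fin 2) F w) = proj (Fin 2) F w := by
      have := semi_proj_eq (s := w) (s' := -w) g (RingEquiv.refl F) (by
        show (-w : SL2 F).1 = M * w.1.map _ * ((g⁻¹ : GL (Fin (0 + 2)) F) : Matrix (Fin 2) (Fin 2) F)
        rw [RingEquiv.coe_refl, Matrix.map_id, hwM, Matrix.neg_mul, Matrix.mul_assoc,
          show M * ((g⁻¹ : GL (Fin (0 + 2)) F) : Matrix (Fin 2) (Fin 2) F) = 1 from g.mul_inv, Matrix.mul_one,
          Matrix.SpecialLinearGroup.coe_neg])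
      exact this.trans (mk_eq_mk_iff.2 (Or.inr rfl))
    intro x hx
    induction hx using Subgroup.closure_induction with
    | mem x hx =>
      rcases hx with rfl | rfl
      · exact hfw
      · rw [map_mul, hfw, hfy]
    | one => exact map_one _
    | mul x y _ _ hx hy => rw [map_mul, hx, hy]
    | inv x _ hx => rw [map_inv, hx]

/-- An involutory automorphism fixing no four group is diagonal, not inner, and fixes a dihedral group. -/
theorem outer_of_noKlein (hodd : Odd (Nat.card F)) (hq : 5 ≤ Nat.card F) {α : MulAut (PSL2 F)}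
    (h : α * α = 1) (hK : NoKlein α) :
    ∃ g : GL (Fin (0 + 2)) F, α = semi g (RingEquiv.refl F) ∧
      ¬ IsSquare (g : Matrix (Fin (0 + 2)) (Fin (0 + 2)) F).det ∧
      ∃ (n : ℕ) (D : Subgroup (PSL2 F)), 3 ≤ n ∧ Odd n ∧
        (2 * n + 1 = Nat.card F ∨ 2 * n = Nat.card F + 1) ∧
        Nonempty (D ≃* DihedralGroup n) ∧ ∀ x ∈ D, α x = x := by
  have h2 : (2 : F) ≠ 0 := two_ne_zero_iff_odd.2 hodd
  obtain ⟨g, σ, rfl⟩ := AutPSL.exists_semi_of_two (F := F) α
  by_cases hσ : σ = RingEquiv.refl F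
  swap
  · obtain ⟨β, hβ⟩ := exists_field_conj h2 hσ h
    rw [hβ] at hK
    have := noKlein_conj (β := β⁻¹) hK
    rw [show β⁻¹ * (β * semi (1 : GL (Fin (0 + 2)) F) σ * β⁻¹) * β⁻¹⁻¹ = semi (1 : GL (Fin (0 + 2)) F) σ by group] at this
    exact absurd this (klein_field h2 σ)
  subst hσ
  set M : Matrix (Fin 2) (Fin 2) F := (g : Matrix (Fin (0 + 2)) (Fin (0 + 2)) F) with hM
  have hdM : M.det ≠ 0 := (GeneralLinearGroup.det g).ne_zero
  rw [semi_refl_mul, semi_eq_one_iff] at h
  obtain ⟨l, hl⟩ : ∃ l : Fˣ, GeneralLinearGroup.scalar _ l = g * g := by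
    have := h.2
    rw [GeneralLinearGroup.center_eq_range_scalar] at this
    exact this
  have hMM : M * M = (l : F) • 1 := by
    have := congrArg (fun z : GL (Fin (0 + 2)) F => (z : Matrix (Fin (0 + 2)) (Fin (0 + 2)) F)) hl
    simp only [GeneralLinearGroup.coe_scalar, Units.val_mul] at this
    rw [smul_one_eq_diagonal]
    exact this.symm
  have htr : M 0 0 + M 1 1 = 0 := by
    by_contra ht
    have e01 := congrFun (congrFun hMM 0) 1
    have e10 := congrFun (congrFun hMM 1) 0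
    have e00 := congrFun (congrFun hMM 0) 0
    have e11 := congrFun (congrFun hMM 1) 1
    simp [Matrix.mul_apply, Fin.sum_univ_two] at e01 e10 e00 e11
    have hb : M 0 1 = 0 := (mul_eq_zero.1 (show M 0 1 * (M 0 0 + M 1 1) = 0 by linear_combination e01)).resolve_right ht
    have hc : M 1 0 = 0 := (mul_eq_zero.1 (show M 1 0 * (M 0 0 + M 1 1) = 0 by linear_combination e10)).resolve_right ht
    have hd : M 0 0 = M 1 1 := by
      have : (M 0 0 - M 1 1) * (M 0 0 + M 1 1) = 0 := by linear_combination e00 - e11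
      exact sub_eq_zero.1 ((mul_eq_zero.1 this).resolve_right ht)
    have hone : semi g (RingEquiv.refl F) = semi (1 : GL (Fin (0 + 2)) F) (RingEquiv.refl F) := by
      rw [semi_one, semi_eq_one_iff]
      refine ⟨rfl, ?_⟩
      rw [GeneralLinearGroup.center_eq_range_scalar]
      refine ⟨Units.mk0 (M 0 0) (fun e => ht (by rw [← hd, e, add_zero])), Units.ext ?_⟩
      rw [GeneralLinearGroup.coe_scalar, Matrix.scalar_apply]
      show Matrix.diagonal (fun _ => M 0 0) = M
      ext i j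
      fin_cases i <;> fin_cases j <;> simp [hb, hc, hd]
    rw [hone] at hK
    exact klein_field h2 _ hK
  have hns : ¬ IsSquare M.det := by
    rintro ⟨e, he⟩
    have he0 : e ≠ 0 := fun h => hdM (by rw [he, h, mul_zero])
    let s : SL2 F := ⟨e⁻¹ • M, by rw [Matrix.det_smul, he, Fintype.card_fin]; field_simp⟩
    have hs : tr s = 0 := by
      simp only [tr, s]
      simp
      linear_combination e⁻¹ * htr
    have : semi g (RingEquiv.refl F) =
        semi (Matrix.SpecialLinearGroup.toGL s : GL (Fin (0 + 2)) F) (RingEquiv.refl F) := by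
      rw [semi_eq_semi]
      refine ⟨rfl, ?_⟩
      rw [GeneralLinearGroup.center_eq_range_scalar]
      refine ⟨Units.mk0 e⁻¹ (inv_ne_zero he0), ?_⟩
      rw [eq_inv_mul_iff_mul_eq]
      refine Units.ext ?_
      rw [Units.val_mul, GeneralLinearGroup.coe_scalar, Matrix.scalar_apply, ← smul_one_eq_diagonal,
        Units.val_mk0]
      show M * (e⁻¹ • 1) = e⁻¹ • M
      rw [Matrix.mul_smul, Matrix.mul_one]
    rw [this] at hK
    exact klein_inner h2 hs hK
  obtain ⟨n, hn, hnodd, hside⟩ : ∃ n, 3 ≤ n ∧ Odd n ∧ (2 * n + 1 = Nat.card F ∨ 2 * n = Nat.card F + 1) := by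
    rw [Nat.odd_iff] at hodd
    by_cases h4 : Nat.card F % 4 = 1
    · exact ⟨(Nat.card F + 1) / 2, by omega, by rw [Nat.odd_iff]; omega, by omega⟩
    · exact ⟨(Nat.card F - 1) / 2, by omega, by rw [Nat.odd_iff]; omega, by omega⟩
  obtain ⟨g₀, hg₀t, hg₀, D, ⟨eD⟩, hD⟩ := exists_model hn hnodd h2 hside
  obtain ⟨P, r, hPr⟩ := exists_gl_conj htr hg₀t hns hg₀
  have hconj : semi g (RingEquiv.refl F) =
      semi P (RingEquiv.refl F) * semi g₀ (RingEquiv.refl F) * (semi P (RingEquiv.refl F))⁻¹ := by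
    rw [eq_mul_inv_iff_mul_eq, semi_refl_mul, semi_refl_mul, semi_eq_semi]
    refine ⟨rfl, ?_⟩
    rw [GeneralLinearGroup.center_eq_range_scalar]
    refine ⟨r⁻¹, ?_⟩
    rw [eq_inv_mul_iff_mul_eq]
    refine Units.ext ?_
    rw [Units.val_mul, GeneralLinearGroup.coe_scalar, Matrix.scalar_apply, ← smul_one_eq_diagonal,
      Units.val_mul, Units.val_mul, Matrix.mul_smul, Matrix.mul_one]
    show ((r⁻¹ : Fˣ) : F) • (M * (P : Matrix (Fin 2) (Fin 2) F)) = _
    rw [hPr, smul_smul, Units.inv_mul, one_smul]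
  refine ⟨g, rfl, hns, n, D.map (semi P (RingEquiv.refl F)).toMonoidHom, hn, hnodd, hside,
    ⟨(Subgroup.equivMapOfInjective D _ (semi P (RingEquiv.refl F)).injective).symm.trans eD⟩, ?_⟩
  rintro _ ⟨x, hx, rfl⟩
  rw [hconj]
  show semi P (RingEquiv.refl F) (semi g₀ (RingEquiv.refl F) ((semi P (RingEquiv.refl F))⁻¹ (semi P (RingEquiv.refl F) x))) = _
  rw [MulAut.inv_apply_self, hD x hx]
  rfl

end Cfsg.Agent.GWCons
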