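/-
Statement S3287 from the Gorenstein–Walter theorem: in `PSL₂(q)`, `q` odd and not 5, 7 or 9, the
centraliser of an involution is a maximal subgroup.

Main results: `isCoatom_centralizer_involution`, `result_of_dihedralGW`.
-/
import Cfsg.Agent.Lib.PSL2.Dihedral
import Cfsg.Agent.Lib.PSL2.Centralizers
import Cfsg.Agent.Lib.Linear.PSLTwoSmall
import Cfsg.Agent.Lib.Components.GenFitting
import Cfsg.Agent.Lib.GWReduce.Main

set_option autoImplicit false

namespace Cfsg.Agent.GWCons

open Subgroup Matrix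

universe u

/-- In `PSL₂(q)`, `q` odd, the centraliser of an involution is maximal unless `q` is 3, 5, 7 or 9. -/
theorem isCoatom_centralizer_involution {F : Type*} [Field F] [Finite F] (hodd : Odd (Nat.card F))
    (h3 : Nat.card F ≠ 3) (h5 : Nat.card F ≠ 5) (h7 : Nat.card F ≠ 7) (h9 : Nat.card F ≠ 9)
    {t : PSL2.PSL2 F} (ht : orderOf t = 2) : IsCoatom (centralizer ({t} : Set (PSL2.PSL2 F))) := by
  obtain ⟨p, hp⟩ := CharP.exists F
  have : Fact p.Prime := ⟨CharP.char_is_prime F p⟩
  obtain ⟨a, ha, hqn, ⟨-, he, -, -⟩ | ⟨-, -, hd, -⟩⟩ := PSL2.q_cases (F := F) p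
  · exact absurd he (Nat.not_even_iff_odd.2 hodd)
  have hq := hodd
  rw [Nat.odd_iff] at hq
  have hq1 : 1 < Nat.card F := Finite.one_lt_card
  obtain ⟨n, hside, hn, heven, hcard⟩ : ∃ n,
      (n = (Nat.card F - 1) / Nat.gcd 2 (Nat.card F - 1) ∨
        n = (Nat.card F + 1) / Nat.gcd 2 (Nat.card F - 1)) ∧ 3 ≤ n ∧ Even n ∧
      ∀ x : PSL2.PSL2 F, orderOf x = 2 → Nat.card (centralizer ({x} : Set (PSL2.PSL2 F))) = 2 * n := by
    rcases Nat.lt_or_ge (Nat.card F % 4) 2 with h4 | h4
    · refine ⟨(Nat.card F - 1) / 2, Or.inl (by rw [hd]), by omega, ?_, fun x hx => ?_⟩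
      · rw [Nat.even_iff]; omega
      · rw [(PSL2.card_centralizer_involution hodd hx).1 (by omega)]; omega
    · refine ⟨(Nat.card F + 1) / 2, Or.inr (by rw [hd]), by omega, ?_, fun x hx => ?_⟩
      · rw [Nat.even_iff]; omega
      · rw [(PSL2.card_centralizer_involution hodd hx).2 (by omega)]; omega
  obtain ⟨D, ⟨e⟩⟩ := PSL2.exists_dihedral_sub (F := F) (by omega : 2 ≤ n)
    (hside.imp dvd_of_eq dvd_of_eq)
  obtain ⟨k, hk⟩ := heven
  set z : DihedralGroup n := DihedralGroup.r (k : ZMod n) with hz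
  have hzc : ∀ w : DihedralGroup n, z * w = w * z := by
    have hkk : (k : ZMod n) + k = 0 := by rw [← Nat.cast_add, ← hk, ZMod.natCast_self]
    rintro (i | i)
    · rw [hz, DihedralGroup.r_mul_r, DihedralGroup.r_mul_r, add_comm]
    · rw [hz, DihedralGroup.r_mul_sr, DihedralGroup.sr_mul_r, sub_eq_add_neg,
        neg_eq_of_add_eq_zero_left hkk]
  have hzo : orderOf z = 2 := by
    have : NeZero n := ⟨by omega⟩
    refine orderOf_eq_prime ?_ ?_
    · rw [hz, pow_two, DihedralGroup.r_mul_r, ← Nat.cast_add, ← hk, ZMod.natCast_self,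
        DihedralGroup.r_zero]
    · rw [hz, DihedralGroup.one_def, Ne, DihedralGroup.r.injEq]
      intro h
      have := Nat.le_of_dvd (by omega) ((ZMod.natCast_eq_zero_iff _ _).1 h)
      omega
  set t' : PSL2.PSL2 F := ((e.symm z : D) : PSL2.PSL2 F) with ht'
  have ht'o : orderOf t' = 2 := by rw [ht', Subgroup.orderOf_coe, MulEquiv.orderOf_eq, hzo]
  have hle : D ≤ centralizer ({t'} : Set (PSL2.PSL2 F)) := by
    intro y hy
    rw [mem_centralizer_singleton_iff, ht']
    have h : (⟨y, hy⟩ : D) * e.symm z = e.symm z * ⟨y, hy⟩ := by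
      apply e.injective
      rw [map_mul, map_mul, e.apply_symm_apply, hzc]
    exact congrArg Subtype.val h
  have heq : D = centralizer ({t'} : Set (PSL2.PSL2 F)) := by
    refine eq_of_le_of_card_ge hle ?_
    rw [hcard t' ht'o, Nat.card_congr e.toEquiv, DihedralGroup.nat_card]
  have hmax : IsCoatom D := PSL2.dihedral_isCoatom hn hside (by omega) h7 h9
    (fun h11 => by
      rcases hside with h | h <;> rw [hd, h11] at h
      · exfalso; omega
      · omega) e
  obtain ⟨g, hg⟩ := isConj_iff.1 (PSL2.involution_isConj hodd ht'o ht)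
  have hmap : D.map (MulAut.conj g).toMonoidHom = centralizer ({t} : Set (PSL2.PSL2 F)) := by
    ext y
    rw [Subgroup.mem_map_equiv, heq, mem_centralizer_singleton_iff, mem_centralizer_singleton_iff,
      ← (MulAut.conj g).injective.eq_iff, map_mul, map_mul, MulEquiv.apply_symm_apply,
      MulAut.conj_apply, hg]
  rw [← hmap]
  exact ((MulAut.conj g).mapSubgroup.isCoatom_iff D).2 hmax

/-- A nonabelian simple group is not a group with trivial layer. -/
theorem genFitting_ne_fitting {G : Type u} [Group G] [Finite G] [IsSimpleGroup G]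
    (hna : ¬ IsMulCommutative G) :
    Cfsg.generalizedFittingSubgroup G ≠ Cfsg.fittingSubgroup G := by
  intro h
  have h1 := Components.centralizer_genFitting_le_fitting (G := G)
  rw [h] at h1
  have hF : Cfsg.fittingSubgroup G = ⊥ := by
    refine ((Subgroup.Normal.eq_bot_or_eq_top (inferInstance : (Cfsg.fittingSubgroup G).Normal)).resolve_right ?_)
    intro ht
    refine hna ⟨⟨IsSimpleGroup.comm_iff_isSolvable.2 ?_⟩⟩
    have := Components.fitting_isSolvable (G := G)
    rw [ht] at this
    exact Group.isSolvable_of_surjective (f := (Subgroup.topEquiv : (⊤ : Subgroup G) ≃* G).toMonoidHom)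
      (Subgroup.topEquiv : (⊤ : Subgroup G) ≃* G).surjective
  rw [hF] at h1
  have : (⊤ : Subgroup G) ≤ ⊥ := le_trans (fun x _ => mem_centralizer_iff.2 fun y hy => by
    obtain rfl : y = 1 := Subgroup.mem_bot.1 hy
    rw [one_mul, mul_one]) h1
  exact top_ne_bot (le_bot_iff.1 this)

/-- Statement S3287 from the Gorenstein–Walter theorem for simple groups. -/
theorem result_of_dihedralGW (hGW : GWReduce.DihedralGW.{u}) {G : Type u} [Group G] [Finite G]
    [IsSimpleGroup G] (S : Sylow 2 G) (m : ℕ) (eS : ↥(S : Subgroup G) ≃* DihedralGroup m)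
    (t : G) (ht : orderOf t = 2) (K : Subgroup G) (hlt : Subgroup.centralizer ({t} : Set G) < K)
    (hK : Cfsg.generalizedFittingSubgroup ↥K = Cfsg.fittingSubgroup ↥K) :
    Nonempty (G ≃* ↥(alternatingGroup (Fin 5))) ∨ Nonempty (G ≃* ↥(alternatingGroup (Fin 7))) ∨
      (∃ (F : Type) (_ : Field F) (_ : Fintype F), Fintype.card F = 2 ∧
        Nonempty (G ≃* Matrix.ProjectiveSpecialLinearGroup (Fin 3) F)) ∨
      (∃ (F : Type) (_ : Field F) (_ : Fintype F), Fintype.card F = 9 ∧
        Nonempty (G ≃* Matrix.ProjectiveSpecialLinearGroup (Fin 2) F)) := by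
  have hna : ¬ IsMulCommutative G := fun h => by
    refine hlt.ne (le_antisymm hlt.le fun x _ => ?_)
    rw [mem_centralizer_singleton_iff]
    exact h.is_comm.comm _ _
  have hm : 2 ≤ m := by
    have hcard : Nat.card (S : Subgroup G) = 2 * m :=
      (Nat.card_congr eS.toEquiv).trans DihedralGroup.nat_card
    have h2 : 2 ∣ Nat.card G := ht ▸ orderOf_dvd_natCard t
    have hpos : 0 < Nat.card (S : Subgroup G) := Nat.card_pos
    by_contra hlt2
    have := Fact.mk Nat.prime_two
    have hc : IsCyclic (S : Subgroup G) := isCyclic_of_prime_card (p := 2) (by omega)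
    have hmin : (Nat.card G).minFac = 2 := by rw [Nat.minFac_eq_two_iff]; exact h2
    have hN := hc.normalizer_le_centralizer hmin
    have hcomp := MonoidHom.ker_transferSylow_isComplement' S hN
    rcases Subgroup.Normal.eq_bot_or_eq_top (inferInstance :
      (MonoidHom.transferSylow S hN).ker.Normal) with h | h
    · rw [h, Subgroup.isComplement'_bot_left] at hcomp
      exact hna (by
        have hS : IsMulCommutative (S : Subgroup G) := inferInstance
        exact ⟨⟨fun x y => congrArg Subtype.val (hS.is_comm.comm ⟨x, hcomp ▸ mem_top x⟩ ⟨y, hcomp ▸ mem_top y⟩)⟩⟩)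
    · rw [h, Subgroup.isComplement'_top_left] at hcomp
      rw [hcomp, Subgroup.card_bot] at hcard
      omega
  rcases hGW G inferInstance hna S m hm ⟨eS⟩ with ⟨F, _, _, hodd, ⟨e⟩⟩ | h7
  swap
  · exact Or.inr (Or.inl h7)
  by_cases h5 : Fintype.card F = 5
  · exact Or.inl ⟨e.trans (Linear.nonempty_pslTwo_five h5).some⟩
  by_cases h7 : Fintype.card F = 7
  · exact Or.inr (Or.inr (Or.inl ⟨ZMod 2, inferInstance, inferInstance, ZMod.card 2,
      ⟨e.trans (Linear.nonempty_pslTwo_seven h7 (ZMod.card 2)).some⟩⟩))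
  by_cases h9 : Fintype.card F = 9
  · exact Or.inr (Or.inr (Or.inr ⟨F, inferInstance, inferInstance, h9, ⟨e⟩⟩))
  exfalso
  have h3 : Fintype.card F ≠ 3 := by
    intro hc
    have hsl : Group.IsSolvable (Matrix.SpecialLinearGroup (Fin 2) F) := by
      refine CharApp.isSolvable_of_card_eq_prime_pow_mul 2 3 Nat.prime_two Nat.prime_three _ _ rfl 3 1 ?_
      rw [GLOrder.card_SL, Nat.card_eq_fintype_card, hc]
      rfl
    have hpsl : Group.IsSolvable (Matrix.ProjectiveSpecialLinearGroup (Fin 2) F) :=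
      Group.isSolvable_of_surjective (f := QuotientGroup.mk' _) (QuotientGroup.mk'_surjective _)
    exact hna ⟨⟨IsSimpleGroup.comm_iff_isSolvable.2
      (Group.isSolvable_of_surjective (f := e.symm.toMonoidHom) e.symm.surjective)⟩⟩
  rw [← Nat.card_eq_fintype_card] at h3 h5 h7 h9 hodd
  have hmax := isCoatom_centralizer_involution hodd h3 h5 h7 h9
    (t := e t) (by rw [MulEquiv.orderOf_eq, ht])
  have hmap : (centralizer ({t} : Set G)).map e.toMonoidHom = centralizer ({e t} : Set _) := by
    ext y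
    rw [Subgroup.mem_map_equiv, mem_centralizer_singleton_iff, mem_centralizer_singleton_iff,
      ← e.injective.eq_iff, map_mul, map_mul, e.apply_symm_apply]
  rw [← hmap] at hmax
  have hKtop : K = ⊤ := ((e.mapSubgroup.isCoatom_iff _).1 hmax).2 K hlt
  subst hKtop
  refine genFitting_ne_fitting (G := G) hna ?_
  have h := congrArg (Subgroup.map (Subgroup.topEquiv : (⊤ : Subgroup G) ≃* G).toMonoidHom) hK
  rwa [Components.genFitting_map_equiv, Cores.fittingSubgroup_map_mulEquiv] at h

end Cfsg.Agent.GWCons
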