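/-
Automorphisms of `S₄`, `A₅` and involutory automorphisms of `A₇`.

Main results: `permFour_aut`, `altFive_aut`, `altSeven_klein`.
-/
import Cfsg.Agent.EqLemmas
import Cfsg.Agent.Lib.AltAut.Odd
import Cfsg.Agent.S2119

set_option autoImplicit false
set_option linter.unusedSectionVars false
set_option maxRecDepth 20000
set_option maxHeartbeats 1000000
set_option synthInstance.maxSize 2000
set_option synthInstance.maxHeartbeats 200000

namespace Cfsg.Agent.GWCons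

open Equiv Subgroup

private theorem four_unique : ∀ u : Perm (Fin 4), u * u * u = 1 → u ≠ 1 → ∀ w : Perm (Fin 4),
    w * w = 1 → w * u * w⁻¹ = u⁻¹ → ∀ r : Perm (Fin 4), r * r ≠ 1 → (r * r) * (r * r) = 1 →
    r * r * w = w * (r * r) → ∀ r' : Perm (Fin 4), r' * r' ≠ 1 → (r' * r') * (r' * r') = 1 →
    r' * r' * w = w * (r' * r') → r * r = r' * r' := by
  decide +kernel

private theorem four_exists : ∀ u : Perm (Fin 4), u * u * u = 1 → u ≠ 1 → ∀ w : Perm (Fin 4),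
    w * w = 1 → w * u * w⁻¹ = u⁻¹ → ∃ r : Perm (Fin 4), r * r ≠ 1 ∧ (r * r) * (r * r) = 1 ∧
    r * r * w = w * (r * r) ∧ ∀ z : Perm (Fin 4), ∃ (i k : Fin 3) (j : Fin 2), z = u ^ (i : ℕ) * w ^ (j : ℕ) ∨
      z = u ^ (i : ℕ) * w ^ (j : ℕ) * (u ^ (k : ℕ) * (r * r) * (u ^ (k : ℕ))⁻¹) := by
  decide +kernel

/-- An automorphism of `S₄` fixing an `S₃` pointwise is trivial. -/
theorem permFour_aut (θ : MulAut (Perm (Fin 4))) {u w : Perm (Fin 4)} (hu : orderOf u = 3)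
    (hw : w * w = 1) (hinv : w * u * w⁻¹ = u⁻¹) (hθu : θ u = u) (hθw : θ w = w) : θ = 1 := by
  have hu3 : u * u * u = 1 := by
    have := pow_orderOf_eq_one u
    rwa [hu, pow_succ, pow_two] at this
  have hu1 : u ≠ 1 := fun e => by rw [e, orderOf_one] at hu; omega
  obtain ⟨r, hr1, hr2, hrw, hgen⟩ := four_exists u hu3 hu1 w hw hinv
  have hv : θ (r * r) = r * r := by
    rw [map_mul]
    refine four_unique u hu3 hu1 w hw hinv (θ r) ?_ ?_ ?_ r hr1 hr2 hrw
    · rw [← map_mul, ← map_one θ]; exact fun h => hr1 (θ.injective h)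
    · rw [← map_mul, ← map_mul, hr2, map_one]
    · conv_lhs => rw [← hθw, ← map_mul, ← map_mul, hrw, map_mul, map_mul, hθw]
  refine MulEquiv.ext fun z => ?_
  obtain ⟨i, k, j, rfl | rfl⟩ := hgen z <;>
    simp only [MulAut.one_apply, map_mul, map_pow, map_inv, hθu, hθw] <;>
    rw [← map_mul θ r r, hv]

private theorem five_centralizer : ∀ u : Perm (Fin 5), u * u * u * u * u = 1 → u ≠ 1 →
    ∀ σ : Perm (Fin 5), σ * u = u * σ → ∃ i : Fin 5, σ = u ^ (i : ℕ) := by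
  decide +kernel

/-- An automorphism of `A₅` fixing a dihedral group of order ten pointwise is trivial. -/
theorem altFive_aut (θ : MulAut (alternatingGroup (Fin 5))) {u w : alternatingGroup (Fin 5)}
    (hu : orderOf u = 5) (hinv : w * u * w⁻¹ = u⁻¹) (hθu : θ u = u) (hθw : θ w = w) : θ = 1 := by
  obtain ⟨σ, rfl⟩ := AltAut.exists_conjNormal_of_threeCycle (by omega) θ
    (fun x hx => AltAut.threeCycle_of_ne_six (by omega) θ x hx)
  have hc : σ * (u : Perm (Fin 5)) = u * σ := by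
    have := congrArg Subtype.val hθu
    rwa [MulAut.conjNormal_apply, mul_inv_eq_iff_eq_mul] at this
  have hu5 : (u : Perm (Fin 5)) * u * u * u * u = 1 := by
    have := congrArg Subtype.val (pow_orderOf_eq_one u)
    rw [hu] at this
    simpa [pow_succ] using this
  have hu1 : (u : Perm (Fin 5)) ≠ 1 := fun e => by
    rw [← Subgroup.orderOf_coe, e, orderOf_one] at hu; omega
  obtain ⟨i, hi⟩ := five_centralizer _ hu5 hu1 σ hc
  have hu' : orderOf (u : Perm (Fin 5)) = 5 := by rw [Subgroup.orderOf_coe, hu]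
  have hw' : (w : Perm (Fin 5)) * σ * (w : Perm (Fin 5))⁻¹ = σ := by
    have := congrArg Subtype.val hθw
    rw [MulAut.conjNormal_apply, mul_inv_eq_iff_eq_mul] at this
    rw [← this, mul_inv_cancel_right]
  rw [hi, ← conj_pow] at hw'
  have hinv' := congrArg Subtype.val hinv
  simp only [Subgroup.coe_mul, InvMemClass.coe_inv] at hinv'
  rw [hinv', inv_pow, inv_eq_iff_mul_eq_one, ← pow_add] at hw'
  have hdvd : orderOf (u : Perm (Fin 5)) ∣ (i : ℕ) + i := orderOf_dvd_of_pow_eq_one hw'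
  rw [hu'] at hdvd
  have hi0 : (i : ℕ) = 0 := by omega
  rw [hi, hi0, pow_zero, map_one]

private theorem seven_pairs :
    (∀ σ ∈ [Equiv.swap (0 : Fin 7) 1, Equiv.swap (0 : Fin 7) 1 * Equiv.swap 2 3,
      Equiv.swap (0 : Fin 7) 1 * Equiv.swap 2 3 * Equiv.swap 4 5],
    ∃ x ∈ [Equiv.swap (2 : Fin 7) 3 * Equiv.swap 4 5, Equiv.swap (0 : Fin 7) 1 * Equiv.swap 2 3,
        Equiv.swap (0 : Fin 7) 1 * Equiv.swap 4 5],
      ∃ y ∈ [Equiv.swap (2 : Fin 7) 4 * Equiv.swap 3 5, Equiv.swap (0 : Fin 7) 1 * Equiv.swap 4 5,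
          Equiv.swap (0 : Fin 7) 2 * Equiv.swap 1 3],
        σ * x = x * σ ∧ σ * y = y * σ ∧ x * y = y * x ∧ x * x = 1 ∧ y * y = 1 ∧ x ≠ 1 ∧ y ≠ 1 ∧ x ≠ y ∧
          Perm.sign x = 1 ∧ Perm.sign y = 1) ∧
    (Equiv.swap (0 : Fin 7) 1).cycleType = {2} ∧
    (Equiv.swap (0 : Fin 7) 1 * Equiv.swap 2 3).cycleType = {2, 2} ∧
    (Equiv.swap (0 : Fin 7) 1 * Equiv.swap 2 3 * Equiv.swap 4 5).cycleType = {2, 2, 2} := by
  decide +kernel

/-- Every automorphism of `A₇` of order at most two fixes two commuting involutions. -/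
theorem altSeven_klein (θ : MulAut (alternatingGroup (Fin 7))) (hθ : θ * θ = 1) :
    ∃ x y : alternatingGroup (Fin 7), θ x = x ∧ θ y = y ∧ x * x = 1 ∧ y * y = 1 ∧ x * y = y * x ∧
      x ≠ 1 ∧ y ≠ 1 ∧ x ≠ y := by
  obtain ⟨σ, rfl⟩ := AltAut.exists_conjNormal_of_threeCycle (by omega) θ
    (fun x hx => AltAut.threeCycle_of_ne_six (by omega) θ x hx)
  obtain ⟨hpairs, hs1, hs2, hs3⟩ := seven_pairs
  have hσ : σ * σ = 1 :=
    S2119.conjNormal_injective (by omega) (by rw [map_mul, hθ, map_one])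
  obtain ⟨τ, hτ, g, hg⟩ : ∃ τ ∈ [1, Equiv.swap (0 : Fin 7) 1, Equiv.swap (0 : Fin 7) 1 * Equiv.swap 2 3,
      Equiv.swap (0 : Fin 7) 1 * Equiv.swap 2 3 * Equiv.swap 4 5], ∃ g, g * τ * g⁻¹ = σ := by
    by_cases h1 : σ = 1
    · exact ⟨1, by simp, 1, by simp [h1]⟩
    have ho : orderOf σ = 2 := orderOf_eq_prime (by rw [pow_two, hσ]) h1
    obtain ⟨k, hk⟩ := Perm.cycleType_prime_order (σ := σ) (by rw [ho]; exact Nat.prime_two)
    rw [ho] at hk
    have hle := Finset.card_le_univ σ.support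
    rw [← Perm.sum_cycleType, hk, Multiset.sum_replicate, smul_eq_mul, Fintype.card_fin] at hle
    rcases (by omega : k = 0 ∨ k = 1 ∨ k = 2) with rfl | rfl | rfl
    · exact ⟨_, by simp, isConj_iff.1 (Perm.isConj_iff_cycleType_eq.2 (hs1.trans hk.symm))⟩
    · exact ⟨_, by simp, isConj_iff.1 (Perm.isConj_iff_cycleType_eq.2 (hs2.trans hk.symm))⟩
    · exact ⟨_, by simp, isConj_iff.1 (Perm.isConj_iff_cycleType_eq.2 (hs3.trans hk.symm))⟩
  obtain ⟨x, y, hx, hy, hxy, hx2, hy2, hx1, hy1, hne, sx, sy⟩ :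
      ∃ x y : Perm (Fin 7), τ * x = x * τ ∧ τ * y = y * τ ∧ x * y = y * x ∧ x * x = 1 ∧ y * y = 1 ∧
        x ≠ 1 ∧ y ≠ 1 ∧ x ≠ y ∧ Perm.sign x = 1 ∧ Perm.sign y = 1 := by
    rw [List.mem_cons] at hτ
    rcases hτ with rfl | hτ
    · obtain ⟨x, -, y, -, -, -, h⟩ := hpairs _ (List.mem_cons_self)
      exact ⟨x, y, by simp, by simp, h⟩
    · obtain ⟨x, -, y, -, h⟩ := hpairs τ hτ
      exact ⟨x, y, h⟩
  have key : ∀ z : Perm (Fin 7), τ * z = z * τ → ∀ hz : Perm.sign z = 1,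
      MulAut.conjNormal σ (⟨g * z * g⁻¹, by
        rw [Perm.mem_alternatingGroup, map_mul, map_mul, hz, mul_one, map_inv, mul_inv_cancel]⟩ :
          alternatingGroup (Fin 7)) = ⟨g * z * g⁻¹, by
        rw [Perm.mem_alternatingGroup, map_mul, map_mul, hz, mul_one, map_inv, mul_inv_cancel]⟩ := by
    intro z hz hs
    apply Subtype.ext
    rw [MulAut.conjNormal_apply, mul_inv_eq_iff_eq_mul, ← hg]
    calc g * τ * g⁻¹ * (g * z * g⁻¹) = g * (τ * z) * g⁻¹ := by group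
      _ = g * (z * τ) * g⁻¹ := by rw [hz]
      _ = g * z * g⁻¹ * (g * τ * g⁻¹) := by group
  refine ⟨_, _, key x hx sx, key y hy sy, ?_, ?_, ?_, ?_, ?_, ?_⟩
  · apply Subtype.ext
    show g * x * g⁻¹ * (g * x * g⁻¹) = 1
    calc g * x * g⁻¹ * (g * x * g⁻¹) = g * (x * x) * g⁻¹ := by group
      _ = 1 := by rw [hx2, mul_one, mul_inv_cancel]
  · apply Subtype.ext
    show g * y * g⁻¹ * (g * y * g⁻¹) = 1
    calc g * y * g⁻¹ * (g * y * g⁻¹) = g * (y * y) * g⁻¹ := by group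
      _ = 1 := by rw [hy2, mul_one, mul_inv_cancel]
  · apply Subtype.ext
    show g * x * g⁻¹ * (g * y * g⁻¹) = g * y * g⁻¹ * (g * x * g⁻¹)
    calc g * x * g⁻¹ * (g * y * g⁻¹) = g * (x * y) * g⁻¹ := by group
      _ = g * (y * x) * g⁻¹ := by rw [hxy]
      _ = g * y * g⁻¹ * (g * x * g⁻¹) := by group
  · intro h; exact hx1 (by simpa [conj_eq_one_iff] using congrArg Subtype.val h)
  · intro h; exact hy1 (by simpa [conj_eq_one_iff] using congrArg Subtype.val h)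
  · intro h
    exact hne (mul_left_cancel (mul_right_cancel (congrArg Subtype.val h : g * x * g⁻¹ = g * y * g⁻¹)))

end Cfsg.Agent.GWCons
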