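/-
Statement S1916 from the Gorenstein–Walter theorem: two commuting involutory automorphisms of a simple
group with dihedral Sylow 2-subgroups, neither fixing a four group, agree unless their fixed points
generate.

Main results: `over_dihedral`, `psl_pair`, `result_of_dihedralGW_pair`.
-/
import Cfsg.Agent.EqLemmas
import Cfsg.Agent.Lib.GWCons.SmallAut
import Cfsg.Agent.Lib.GWCons.InvolAut
import Cfsg.Agent.Lib.PSL2.Dihedral
import Cfsg.Agent.Lib.GWReduce.Main

set_option autoImplicit false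
set_option linter.unusedSectionVars false

namespace Cfsg.Agent.GWCons

open Matrix Subgroup MulAction Cfsg.Agent.PSL2

universe u

variable {F : Type*} [Field F] [Finite F]

/-- The fixed points of an automorphism. -/
def fixS {L : Type*} [Group L] (α : MulAut L) : Subgroup L :=
  α.toMonoidHom.eqLocus (MonoidHom.id L)

theorem mem_fixS {L : Type*} [Group L] {α : MulAut L} {x : L} : x ∈ fixS α ↔ α x = x := Iff.rfl

/-- Proper overgroups of a dihedral subgroup of order `q ± 1`. -/
theorem over_dihedral {n : ℕ} (hn : 3 ≤ n) (hnodd : Odd n)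
    (hside : 2 * n + 1 = Nat.card F ∨ 2 * n = Nat.card F + 1)
    {D M : Subgroup (PSL2 F)} (e : D ≃* DihedralGroup n) (hle : D ≤ M) (hne : M ≠ ⊤) :
    M = D ∨ (n = 3 ∧ Nonempty (M ≃* Equiv.Perm (Fin 4))) ∨
      (n = 5 ∧ Nonempty (M ≃* alternatingGroup (Fin 5))) := by
  have hq : Nat.card F % 2 = 1 := by omega
  have hgcd : Nat.gcd 2 (Nat.card F - 1) = 2 := Nat.gcd_eq_left (by omega)
  have hside' : n = (Nat.card F - 1) / Nat.gcd 2 (Nat.card F - 1) ∨
      n = (Nat.card F + 1) / Nat.gcd 2 (Nat.card F - 1) := by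
    rw [hgcd]; omega
  rw [Nat.odd_iff] at hnodd
  by_cases hsmall : Nat.card F = 7 ∨ Nat.card F = 9 ∨ Nat.card F = 11
  swap
  · push Not at hsmall
    have hmax := dihedral_isCoatom hn hside' (by omega) hsmall.1 hsmall.2.1 (fun h => absurd h hsmall.2.2) e
    rcases eq_or_lt_of_le hle with h | h
    · exact Or.inl h.symm
    · exact absurd (hmax.2 M h) hne
  obtain ⟨p, hp⟩ := CharP.exists F
  have : Fact p.Prime := ⟨CharP.char_is_prime F p⟩
  have hpn : ¬ p ∣ n := coprime_char_of_torus p (hside'.imp dvd_of_eq dvd_of_eq)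
  have hn35 : (Nat.card F = 7 ∧ n = 3) ∨ (Nat.card F = 9 ∧ n = 5) ∨ (Nat.card F = 11 ∧ n = 5) := by omega
  have hD : Nat.card D = 2 * n := (Nat.card_congr e.toEquiv).trans DihedralGroup.nat_card
  let g : DihedralGroup n →* M := (Subgroup.inclusion hle).comp e.symm.toMonoidHom
  have hg : Function.Injective g := (Subgroup.inclusion_injective hle).comp e.symm.injective
  set x : M := g (DihedralGroup.r 1) with hxdef
  have hx : orderOf x = n := by rw [hxdef, orderOf_injective g hg, DihedralGroup.orderOf_r_one]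
  have hxinv : g (DihedralGroup.sr 0) * x * (g (DihedralGroup.sr 0))⁻¹ = x⁻¹ := by
    rw [hxdef, ← map_inv, ← map_inv, ← map_mul, ← map_mul]
    congr 1
    simp
  have hdvd : 2 * n ∣ Nat.card M := hD ▸ Subgroup.card_dvd_of_le hle
  have hMG : Nat.card M ∣ Nat.card (PSL2 F) := card_subgroup_dvd_card M
  have hG := card_psl_mul (F := F)
  rw [hgcd] at hG
  rcases psl_dickson p M with ⟨-, S, hS⟩ | ⟨-, hcyc, -⟩ | ⟨k, -, -, hk, hcard, -, ⟨f⟩⟩ |
    ⟨-, ⟨⟨f⟩⟩ | ⟨⟨f⟩⟩ | ⟨⟨f⟩⟩⟩ | ⟨-, -, ⟨f⟩⟩ | ⟨R, m, hm, hR, hiso⟩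
  · exfalso
    obtain ⟨P, hP⟩ := normalizer_sylow_le p S
    exact not_dihedral_le_stabilizer p hn hpn (M.subtype.comp g)
      (Subtype.coe_injective.comp hg) (fun y => hP (hS (g y).2))
  · exfalso
    obtain ⟨c, hc⟩ := hcyc.exists_generator
    obtain ⟨i, hi⟩ := hc x
    obtain ⟨j, hj⟩ := hc (g (DihedralGroup.sr 0))
    simp only at hi hj
    rw [← hj, ← hi, ((Commute.refl c).zpow_zpow j i).eq, mul_inv_cancel_right] at hxinv
    have h2 : x * x = 1 := by
      rw [← hi]; nth_rewrite 2 [hxinv]; exact mul_inv_cancel _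
    have := Nat.le_of_dvd two_pos (hx ▸ orderOf_dvd_of_pow_eq_one (by rwa [pow_two]))
    omega
  · left
    refine (eq_of_le_of_card_ge hle ?_).symm
    rw [hD, hcard]
    have hnk : n ∣ k := dvd_of_orderOf_dihedral (x := f x) (by rw [MulEquiv.orderOf_eq, hx]) hn
    rw [hgcd] at hk
    obtain ⟨c, rfl⟩ := hnk
    rcases hk with h | h <;>
      rcases hn35 with ⟨h1, rfl⟩ | ⟨h1, rfl⟩ | ⟨h1, rfl⟩ <;> rw [h1] at h <;>
      norm_num at h <;> have := Nat.le_of_dvd (by norm_num) h <;> omega
  · exfalso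
    have hn3 : n = 3 := by
      rcases altFour_orders (f x) with e | e <;>
        have := Nat.le_of_dvd (by norm_num) (orderOf_dvd_of_pow_eq_one e) <;>
        rw [MulEquiv.orderOf_eq, hx] at this <;> omega
    have hx3 : f x ^ 3 = 1 := by
      rw [← map_pow, ← hn3, ← hx, pow_orderOf_eq_one, map_one]
    have h1 := altFour_no_inverting (f x) (f (g (DihedralGroup.sr 0))) hx3
      (by rw [← map_inv, ← map_mul, ← map_mul, hxinv, map_inv])
    rw [MulEquiv.map_eq_one_iff] at h1
    rw [h1, orderOf_one] at hx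
    omega
  · have : n ≤ 4 := by
      rcases permFour_orders (f x) with e | e <;>
        have := Nat.le_of_dvd (by norm_num) (orderOf_dvd_of_pow_eq_one e) <;>
        rw [MulEquiv.orderOf_eq, hx] at this <;> omega
    exact Or.inr (Or.inl ⟨by omega, ⟨f⟩⟩)
  all_goals try
    (have h60 : Nat.card M = 60 := (Nat.card_congr f.toEquiv).trans card_alt_five
     rw [h60] at hMG
     rcases hn35 with ⟨h1, h3⟩ | ⟨-, h5⟩ | ⟨-, h5⟩
     · rw [h1] at hG
       obtain ⟨c, hc⟩ := hMG
       omega
     · exact Or.inr (Or.inr ⟨h5, ⟨f⟩⟩)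
     · exact Or.inr (Or.inr ⟨h5, ⟨f⟩⟩))
  exfalso
  by_cases hm1 : m = 1
  · subst hm1
    rcases hiso with ⟨⟨f⟩⟩ | ⟨-, he, -⟩
    · exact hne (eq_top_of_psl (by rw [← hR, pow_one]) f)
    · exact absurd he (by decide)
  have hr1 : 1 < Nat.card R := Finite.one_lt_card
  have hr2 : Nat.card R ^ 2 ≤ Nat.card F := hR ▸ Nat.pow_le_pow_right (by omega) (by omega)
  have hr3 : Nat.card R ≤ 3 := by
    by_contra hc
    have := Nat.mul_le_mul (not_le.1 hc) (not_le.1 hc)
    rw [pow_two] at hr2
    omega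
  have hr : Nat.card R = 3 := by
    by_contra hc
    have h2R : Nat.card R = 2 := by omega
    rw [h2R] at hR
    have : 2 ∣ Nat.card F := hR ▸ dvd_pow_self 2 (by omega)
    omega
  have hF : Nat.card F = 9 := by
    rw [hr] at hR
    have : 3 ∣ Nat.card F := hR ▸ dvd_pow_self 3 (by omega)
    omega
  have hn5 : n = 5 := by omega
  rw [hn5] at hdvd
  rcases hiso with ⟨⟨f⟩⟩ | ⟨-, -, ⟨f⟩⟩
  · have h6 := card_psl_mul (F := R)
    rw [hr] at h6
    norm_num at h6
    rw [Nat.card_congr f.toEquiv] at hdvd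
    omega
  · have := Fintype.ofFinite R
    have h6 : Nat.card (PGL2 R) = 24 := by
      rw [GLOrder.card_PGL_two, hr]; norm_num
    rw [Nat.card_congr f.toEquiv, h6] at hdvd
    omega

/-- An automorphism fixing a dihedral group pointwise and preserving an overgroup fixes the overgroup. -/
theorem fix_over {n : ℕ} (hn : 3 ≤ n) (hnodd : Odd n)
    (hside : 2 * n + 1 = Nat.card F ∨ 2 * n = Nat.card F + 1)
    {D M : Subgroup (PSL2 F)} (e : D ≃* DihedralGroup n) (hle : D ≤ M) (hne : M ≠ ⊤)
    (α : MulAut (PSL2 F)) (hα : M.map α.toMonoidHom = M) (hD : ∀ x ∈ D, α x = x) :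
    ∀ x ∈ M, α x = x := by
  rcases over_dihedral hn hnodd hside e hle hne with rfl | h
  · exact hD
  let θ : MulAut M := (α.subgroupMap M).trans (MulEquiv.subgroupCongr hα)
  have hθ : ∀ y : M, ((θ y : M) : PSL2 F) = α y := fun y => rfl
  set u : M := Subgroup.inclusion hle (e.symm (DihedralGroup.r 1)) with hu
  set w : M := Subgroup.inclusion hle (e.symm (DihedralGroup.sr 0)) with hw
  have hgi : Function.Injective ((Subgroup.inclusion hle).comp e.symm.toMonoidHom) :=
    (Subgroup.inclusion_injective hle).comp e.symm.injective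
  have huo : orderOf u = n := by
    rw [hu, show Subgroup.inclusion hle (e.symm (DihedralGroup.r 1)) =
      ((Subgroup.inclusion hle).comp e.symm.toMonoidHom) (DihedralGroup.r 1) from rfl,
      orderOf_injective _ hgi, DihedralGroup.orderOf_r_one]
  have hinv : w * u * w⁻¹ = u⁻¹ := by
    rw [hu, hw, ← map_inv, ← map_inv, ← map_mul, ← map_mul, ← map_inv, ← map_mul, ← map_mul]
    congr 2
    rw [← map_inv]
    simp
  have hww : w * w = 1 := by
    rw [hw, ← map_mul, ← map_mul, DihedralGroup.sr_mul_self, map_one, map_one]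
  have hfu : θ u = u := Subtype.ext (by rw [hθ]; exact hD _ (e.symm (DihedralGroup.r 1)).2)
  have hfw : θ w = w := Subtype.ext (by rw [hθ]; exact hD _ (e.symm (DihedralGroup.sr 0)).2)
  have key : θ = 1 := by
    rcases h with ⟨rfl, ⟨f⟩⟩ | ⟨rfl, ⟨f⟩⟩
    · have h1 := permFour_aut ((f.symm.trans θ).trans f) (u := f u) (w := f w)
        (by rw [MulEquiv.orderOf_eq, huo]) (by rw [← map_mul, hww, map_one])
        (by rw [← map_inv, ← map_mul, ← map_mul, hinv, map_inv])
        (by simp [hfu]) (by simp [hfw])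
      refine MulEquiv.ext fun y => f.injective ?_
      simpa using MulEquiv.ext_iff.1 h1 (f y)
    · have h1 := altFive_aut ((f.symm.trans θ).trans f) (u := f u) (w := f w)
        (by rw [MulEquiv.orderOf_eq, huo])
        (by rw [← map_inv, ← map_mul, ← map_mul, hinv, map_inv])
        (by simp [hfu]) (by simp [hfw])
      refine MulEquiv.ext fun y => f.injective ?_
      simpa using MulEquiv.ext_iff.1 h1 (f y)
  intro x hx
  rw [← hθ ⟨x, hx⟩, key]
  rfl

private theorem permFour_pair : ∃ x y : Equiv.Perm (Fin 4), x * x = 1 ∧ y * y = 1 ∧ x * y = y * x ∧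
    x ≠ 1 ∧ y ≠ 1 ∧ x ≠ y :=
  ⟨Equiv.swap 0 1 * Equiv.swap 2 3, Equiv.swap 0 2 * Equiv.swap 1 3, by decide⟩

private theorem altFive_pair' : ∃ x y : alternatingGroup (Fin 5), x * x = 1 ∧ y * y = 1 ∧ x * y = y * x ∧
    x ≠ 1 ∧ y ≠ 1 ∧ x ≠ y :=
  ⟨⟨Equiv.swap 0 1 * Equiv.swap 2 3, Equiv.Perm.mem_alternatingGroup.2 (by decide)⟩,
    ⟨Equiv.swap 0 2 * Equiv.swap 1 3, Equiv.Perm.mem_alternatingGroup.2 (by decide)⟩, by decide⟩

private theorem klein_transfer {L T : Type*} [Group L] [Group T] {α : MulAut L} {M : Subgroup L}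
    (f : M ≃* T) (hM : ∀ x ∈ M, α x = x)
    (h : ∃ x y : T, x * x = 1 ∧ y * y = 1 ∧ x * y = y * x ∧ x ≠ 1 ∧ y ≠ 1 ∧ x ≠ y) : ¬ NoKlein α := by
  obtain ⟨x, y, hx, hy, hxy, x1, y1, hne⟩ := h
  intro hK
  have hi : Function.Injective (M.subtype.comp f.symm.toMonoidHom) :=
    Subtype.coe_injective.comp f.symm.injective
  exact hne (hi (hK _ _ (hM _ (f.symm x).2) (hM _ (f.symm y).2)
    (by rw [MonoidHom.comp_apply, ← map_mul, MulEquiv.coe_toMonoidHom, ← map_mul, hx, map_one, map_one])
    (by rw [MonoidHom.comp_apply, ← map_mul, MulEquiv.coe_toMonoidHom, ← map_mul, hy, map_one, map_one])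
    (by rw [MonoidHom.comp_apply, MonoidHom.comp_apply, ← map_mul, MulEquiv.coe_toMonoidHom, ← map_mul, hxy,
      map_mul, map_mul])
    (fun e => x1 (hi (e.trans (map_one _).symm))) (fun e => y1 (hi (e.trans (map_one _).symm)))))

/-- The fixed points of an involutory automorphism without fixed four group are dihedral. -/
theorem fixS_dihedral (hodd : Odd (Nat.card F)) (hq : 5 ≤ Nat.card F) {α : MulAut (PSL2 F)}
    (h : α * α = 1) (hK : NoKlein α) :
    ∃ g : GL (Fin (0 + 2)) F, α = AutPSL.semi g (RingEquiv.refl F) ∧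
      ¬ IsSquare (g : Matrix (Fin (0 + 2)) (Fin (0 + 2)) F).det ∧
      ∃ n : ℕ, 3 ≤ n ∧ Odd n ∧ (2 * n + 1 = Nat.card F ∨ 2 * n = Nat.card F + 1) ∧
        Nonempty (fixS α ≃* DihedralGroup n) := by
  obtain ⟨g, hg, hns, n, D, hn, hnodd, hside, ⟨e⟩, hD⟩ := outer_of_noKlein hodd hq h hK
  refine ⟨g, hg, hns, n, hn, hnodd, hside, ?_⟩
  have hle : D ≤ fixS α := fun x hx => hD x hx
  have hne : fixS α ≠ ⊤ := by
    intro ht
    have h1 : α = 1 := MulEquiv.ext fun x => (ht ▸ mem_top x : x ∈ fixS α)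
    rw [h1, ← AutPSL.semi_one (n := Fin (0 + 2)) (F := F)] at hK
    exact klein_field (two_ne_zero_iff_odd.2 hodd) _ hK
  rcases over_dihedral hn hnodd hside e hle hne with h' | ⟨-, ⟨f⟩⟩ | ⟨-, ⟨f⟩⟩
  · rw [h']; exact ⟨e⟩
  · exact absurd hK (klein_transfer f (fun x hx => hx) permFour_pair)
  · exact absurd hK (klein_transfer f (fun x hx => hx) altFive_pair')

theorem center_dihedral {n : ℕ} (hn : 3 ≤ n) (hnodd : Odd n) {z : DihedralGroup n}
    (h : ∀ y, z * y = y * z) : z = 1 := by
  have : NeZero n := ⟨by omega⟩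
  have h2 : ∀ i : ZMod n, i + i = 0 → i = 0 := by
    intro i hi
    have h1 : ((2 * i.val : ℕ) : ZMod n) = 0 := by
      push_cast; rw [ZMod.natCast_zmod_val, two_mul]; exact hi
    have hd := (ZMod.natCast_eq_zero_iff _ _).1 h1
    have := (Nat.coprime_two_right.2 hnodd).dvd_of_dvd_mul_left hd
    exact (ZMod.val_eq_zero i).1 (Nat.eq_zero_of_dvd_of_lt this (ZMod.val_lt i))
  rcases z with i | i
  · have := h (DihedralGroup.sr 0)
    rw [DihedralGroup.r_mul_sr, DihedralGroup.sr_mul_r, DihedralGroup.sr.injEq] at this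
    rw [h2 i (by linear_combination -this), DihedralGroup.r_zero]
  · exfalso
    have := h (DihedralGroup.r 1)
    rw [DihedralGroup.r_mul_sr, DihedralGroup.sr_mul_r, DihedralGroup.sr.injEq] at this
    have h1 : (1 : ZMod n) = 0 := h2 1 (by linear_combination this)
    have := (ZMod.natCast_eq_zero_iff 1 n).1 (by simpa using h1)
    exact absurd (Nat.le_of_dvd one_pos this) (by omega)

/-- The key lemma for `PSL₂(q)`. -/
theorem psl_pair (hodd : Odd (Nat.card F)) (hq : 5 ≤ Nat.card F) [IsSimpleGroup (PSL2 F)]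
    {α β : MulAut (PSL2 F)} (hα : α * α = 1) (hβ : β * β = 1) (hc : α * β = β * α)
    (hKα : NoKlein α) (hKβ : NoKlein β) (hgen : fixS α ⊔ fixS β ≠ ⊤) : α * β = 1 := by
  obtain ⟨g, hg, hgns, n, hn, hnodd, hside, ⟨e⟩⟩ := fixS_dihedral hodd hq hα hKα
  obtain ⟨h, hh, hhns, n', hn', hnodd', hside', ⟨e'⟩⟩ := fixS_dihedral hodd hq hβ hKβ
  have hnn : n' = n := by
    rw [Nat.odd_iff] at hnodd hnodd'
    omega
  subst hnn
  set M := fixS α ⊔ fixS β
  have hαM : M.map α.toMonoidHom = M := by
    rw [Subgroup.map_sup]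
    congr 1
    · ext x
      rw [Subgroup.mem_map_equiv, mem_fixS, mem_fixS]
      constructor
      · intro hx
        rw [α.apply_symm_apply] at hx
        exact (congrArg α hx).trans (α.apply_symm_apply x)
      · intro hx
        rw [α.apply_symm_apply]
        exact (α.symm_apply_eq.2 hx.symm).symm
    · have hαinv : ∀ x, α.symm x = α x := fun x => by
        apply α.injective
        rw [α.apply_symm_apply, ← MulAut.mul_apply, hα, MulAut.one_apply]
      ext x
      rw [Subgroup.mem_map_equiv, mem_fixS, mem_fixS, hαinv, ← MulAut.mul_apply, ← hc, MulAut.mul_apply,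
        α.injective.eq_iff]
  have hfix : ∀ x ∈ M, α x = x := fix_over hn hnodd hside e le_sup_left hgen α hαM (fun x hx => hx)
  have hEq : fixS β = fixS α := by
    refine eq_of_le_of_card_ge (fun x hx => hfix x (le_sup_right (α := Subgroup (PSL2 F)) hx)) ?_
    rw [Nat.card_congr e.toEquiv, Nat.card_congr e'.toEquiv]
  -- the product is inner
  have := Fintype.ofFinite F
  set N : Matrix (Fin 2) (Fin 2) F := ((g * h : GL (Fin (0 + 2)) F) : Matrix (Fin (0 + 2)) (Fin (0 + 2)) F) with hN
  obtain ⟨d, hd⟩ : IsSquare N.det := by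
    rw [hN, Units.val_mul]
    show IsSquare ((g : Matrix (Fin (0 + 2)) (Fin (0 + 2)) F) * (h : Matrix (Fin (0 + 2)) (Fin (0 + 2)) F)).det
    rw [Matrix.det_mul]
    exact AutPSL.isSquare_mul_of_nonsq hgns hhns
  have hd0 : d ≠ 0 := fun e => by
    have : N.det ≠ 0 := (GeneralLinearGroup.det (g * h)).ne_zero
    exact this (by rw [hd, e, mul_zero])
  let s : SL2 F := ⟨d⁻¹ • N, by rw [Matrix.det_smul, hd, Fintype.card_fin]; field_simp⟩
  set x : PSL2 F := AutPSL.proj (Fin 2) F s with hxdef
  have hconj : α * β = MulAut.conj x := by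
    rw [hg, hh, AutPSL.semi_refl_mul, hxdef, AutPSL.conj_eq_semi]
    refine AutPSL.semi_eq_semi.2 ⟨rfl, ?_⟩
    rw [GeneralLinearGroup.center_eq_range_scalar]
    refine ⟨Units.mk0 d⁻¹ (inv_ne_zero hd0), ?_⟩
    rw [eq_inv_mul_iff_mul_eq]
    refine Units.ext ?_
    rw [Units.val_mul, GeneralLinearGroup.coe_scalar, Matrix.scalar_apply, ← smul_one_eq_diagonal,
      Units.val_mk0]
    show N * (d⁻¹ • 1) = d⁻¹ • N
    rw [Matrix.mul_smul, Matrix.mul_one]
  have hxc : ∀ y ∈ fixS α, x * y = y * x := fun y hy => by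
    have h1 : (α * β) y = y := by
      rw [MulAut.mul_apply, show β y = y from (hEq ▸ hy : y ∈ fixS β)]
      exact hy
    rw [hconj, MulAut.conj_apply, mul_inv_eq_iff_eq_mul] at h1
    exact h1
  rw [hconj]
  suffices hx1 : x = 1 by rw [hx1, map_one]
  set M' := fixS α ⊔ zpowers x with hM'
  have hM'N : M' ≤ normalizer (fixS α : Set (PSL2 F)) := by
    refine sup_le Subgroup.le_normalizer (zpowers_le.2 ?_)
    rw [Subgroup.mem_normalizer_iff]
    intro y
    constructor
    · intro hy
      rw [hxc y hy, mul_inv_cancel_right]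
      exact hy
    · intro hy
      have := hxc _ hy
      rw [show x * y * x⁻¹ * x = x * y by group] at this
      have h' : x * y * x⁻¹ = y := mul_left_cancel this
      rwa [h'] at hy
  have hne : M' ≠ ⊤ := by
    intro ht
    have hnorm : (fixS α).Normal := Subgroup.normalizer_eq_top_iff.1 (top_unique (ht ▸ hM'N))
    have hcard : Nat.card (fixS α) = 2 * n' := (Nat.card_congr e.toEquiv).trans DihedralGroup.nat_card
    rcases hnorm.eq_bot_or_eq_top with h0 | h0
    · rw [h0, Subgroup.card_bot] at hcard; omega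
    · exact hgen (top_unique (h0 ▸ le_sup_left))
  have hMc : ∀ y ∈ M', MulAut.conj x y = y := by
    refine fix_over hn hnodd hside e le_sup_left hne (MulAut.conj x) ?_ ?_
    · have hxM : x ∈ M' := (le_sup_right : zpowers x ≤ M') (mem_zpowers x)
      ext y
      rw [Subgroup.mem_map_equiv, MulAut.conj_symm_apply]
      constructor
      · intro hy
        have := M'.mul_mem (M'.mul_mem hxM hy) (M'.inv_mem hxM)
        rwa [show x * (x⁻¹ * y * x) * x⁻¹ = y by group] at this
      · intro hy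
        exact M'.mul_mem (M'.mul_mem (M'.inv_mem hxM) hy) hxM
    · intro y hy
      rw [MulAut.conj_apply, hxc y hy, mul_inv_cancel_right]
  have hxM : x ∈ M' := (le_sup_right : zpowers x ≤ M') (mem_zpowers x)
  have hcen : ∀ y : M', (⟨x, hxM⟩ : M') * y = y * ⟨x, hxM⟩ := fun y => Subtype.ext (by
    have := hMc y y.2
    rw [MulAut.conj_apply, mul_inv_eq_iff_eq_mul] at this
    exact this)
  rcases over_dihedral hn hnodd hside e le_sup_left hne with h' | ⟨-, ⟨f⟩⟩ | ⟨-, ⟨f⟩⟩
  · have hxD : x ∈ fixS α := by rw [← h']; exact hxM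
    have := center_dihedral hn hnodd (z := e ⟨x, hxD⟩) fun y => by
      obtain ⟨y, rfl⟩ := e.surjective y
      rw [← map_mul, ← map_mul]
      exact congrArg e (Subtype.ext (hxc y y.2))
    rw [MulEquiv.map_eq_one_iff] at this
    exact congrArg Subtype.val this
  · have hc4 : ∀ z : Equiv.Perm (Fin 4), (∀ y, z * y = y * z) → z = 1 := by decide +kernel
    have := hc4 (f ⟨x, hxM⟩) fun y => by
      obtain ⟨y, rfl⟩ := f.surjective y
      rw [← map_mul, ← map_mul, hcen]
    rw [MulEquiv.map_eq_one_iff] at this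
    exact congrArg Subtype.val this
  · have hc5 : ∀ z : alternatingGroup (Fin 5), (∀ y, z * y = y * z) → z = 1 := by decide +kernel
    have := hc5 (f ⟨x, hxM⟩) fun y => by
      obtain ⟨y, rfl⟩ := f.surjective y
      rw [← map_mul, ← map_mul, hcen]
    rw [MulEquiv.map_eq_one_iff] at this
    exact congrArg Subtype.val this

theorem noKlein_congr {L L' : Type*} [Group L] [Group L'] (e : L ≃* L') {α : MulAut L} (h : NoKlein α) :
    NoKlein ((e.symm.trans α).trans e) := by
  intro x y hx hy x2 y2 hxy x1 y1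
  refine e.symm.injective (h _ _ ?_ ?_ ?_ ?_ ?_ ?_ ?_)
  · exact e.injective (hx.trans (e.apply_symm_apply x).symm)
  · exact e.injective (hy.trans (e.apply_symm_apply y).symm)
  · rw [← map_mul, x2, map_one]
  · rw [← map_mul, y2, map_one]
  · rw [← map_mul, hxy, map_mul]
  · exact fun c => x1 (e.symm.injective (c.trans (map_one _).symm))
  · exact fun c => y1 (e.symm.injective (c.trans (map_one _).symm))

theorem fixS_congr {L L' : Type*} [Group L] [Group L'] (e : L ≃* L') (α : MulAut L) :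
    fixS (((e.symm.trans α).trans e : L' ≃* L') : MulAut L') = (fixS α).map e.toMonoidHom := by
  ext x
  rw [mem_fixS, Subgroup.mem_map_equiv, mem_fixS]
  exact ⟨fun h => e.injective (h.trans (e.apply_symm_apply x).symm), fun h => by
    show e (α (e.symm x)) = x
    rw [h, e.apply_symm_apply]⟩

/-- A Sylow 2-subgroup of a nonabelian simple group is not dihedral of order two. -/
theorem two_le_of_sylow {L : Type*} [Group L] [Finite L] [IsSimpleGroup L] (hna : ¬ IsMulCommutative L)
    (P : Sylow 2 L) {m : ℕ} (e : (P : Subgroup L) ≃* DihedralGroup m) : 2 ≤ m := by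
  have hcard : Nat.card (P : Subgroup L) = 2 * m := (Nat.card_congr e.toEquiv).trans DihedralGroup.nat_card
  have hpos : 0 < Nat.card (P : Subgroup L) := Nat.card_pos
  by_contra hlt2
  have := Fact.mk Nat.prime_two
  have hc : IsCyclic (P : Subgroup L) := isCyclic_of_prime_card (p := 2) (by omega)
  have h2 : 2 ∣ Nat.card L := (Dvd.intro m hcard.symm).trans (card_subgroup_dvd_card _)
  have hmin : (Nat.card L).minFac = 2 := by rw [Nat.minFac_eq_two_iff]; exact h2
  have hN := hc.normalizer_le_centralizer hmin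
  have hcomp := MonoidHom.ker_transferSylow_isComplement' P hN
  rcases Subgroup.Normal.eq_bot_or_eq_top (inferInstance :
    (MonoidHom.transferSylow P hN).ker.Normal) with h | h
  · rw [h, Subgroup.isComplement'_bot_left] at hcomp
    exact hna (by
      have hS : IsMulCommutative (P : Subgroup L) := inferInstance
      exact ⟨⟨fun x y => congrArg Subtype.val (hS.is_comm.comm ⟨x, hcomp ▸ mem_top x⟩ ⟨y, hcomp ▸ mem_top y⟩)⟩⟩)
  · rw [h, Subgroup.isComplement'_top_left] at hcomp
    rw [hcomp, Subgroup.card_bot] at hcard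
    omega

theorem pair_of_dihedralGW (hGW : GWReduce.DihedralGW.{u}) {L : Type u} [Group L] [Finite L]
    (hs : IsSimpleGroup L) (hna : ¬ IsMulCommutative L)
    (hD : ∀ P : Sylow 2 L, ∃ n : ℕ, Nonempty (↥(P : Subgroup L) ≃* DihedralGroup n))
    {α β : MulAut L} (hα : α * α = 1) (hβ : β * β = 1) (hc : α * β = β * α)
    (hKα : NoKlein α) (hKβ : NoKlein β) (hgen : fixS α ⊔ fixS β ≠ ⊤) : α * β = 1 := by
  obtain ⟨m, ⟨em⟩⟩ := hD default
  rcases hGW L hs hna default m (two_le_of_sylow hna _ em) ⟨em⟩ with ⟨F, hF1, hF2, hodd, ⟨e⟩⟩ | ⟨⟨e⟩⟩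
  · have hq3 : Fintype.card F ≠ 3 := by
      intro hc
      have hsl : Group.IsSolvable (Matrix.SpecialLinearGroup (Fin 2) F) := by
        refine CharApp.isSolvable_of_card_eq_prime_pow_mul 2 3 Nat.prime_two Nat.prime_three _ _ rfl 3 1 ?_
        rw [GLOrder.card_SL, Nat.card_eq_fintype_card, hc]
        rfl
      have hpsl : Group.IsSolvable (Matrix.ProjectiveSpecialLinearGroup (Fin 2) F) :=
        Group.isSolvable_of_surjective (f := QuotientGroup.mk' _) (QuotientGroup.mk'_surjective _)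
      exact hna ⟨⟨IsSimpleGroup.comm_iff_isSolvable.2
        (Group.isSolvable_of_surjective (f := e.symm.toMonoidHom) e.symm.surjective)⟩⟩
    have hq : 5 ≤ Nat.card F := by
      rw [Nat.card_eq_fintype_card]
      have h1 : 1 < Fintype.card F := Fintype.one_lt_card
      obtain ⟨k, hk⟩ := hodd
      omega
    have : IsSimpleGroup (PSL2 F) := e.symm.isSimpleGroup
    let t : MulAut L →* MulAut (PSL2 F) := (MulAut.congr e).toMonoidHom
    have h1 : t α * t β = 1 := by
      refine psl_pair (by rwa [Nat.card_eq_fintype_card]) hq ?_ ?_ ?_ (noKlein_congr e hKα) (noKlein_congr e hKβ) ?_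
      · rw [← map_mul, hα, map_one]
      · rw [← map_mul, hβ, map_one]
      · rw [← map_mul, hc, map_mul]
      · show fixS (((e.symm.trans α).trans e : _ ≃* _) : MulAut _) ⊔
          fixS (((e.symm.trans β).trans e : _ ≃* _) : MulAut _) ≠ ⊤
        rw [fixS_congr, fixS_congr, ← Subgroup.map_sup, ← Subgroup.map_top_of_surjective e.toMonoidHom e.surjective]
        exact fun h => hgen (Subgroup.map_injective (f := e.toMonoidHom) e.injective h)
    rw [← map_mul] at h1
    exact (MulAut.congr e).injective (h1.trans (map_one (MulAut.congr e)).symm)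
  · exfalso
    have hKa := noKlein_congr e hKα
    obtain ⟨x, y, hx, hy, x2, y2, hxy, x1, y1, hne⟩ :=
      altSeven_klein (MulAut.congr e α) (by rw [← map_mul, hα, map_one])
    exact hne (hKa x y hx hy x2 y2 hxy x1 y1)

/-- The fixed points of conjugation contain no four group if the Sylow 2-subgroups are cyclic. -/
theorem noKlein_of_cyclic {G : Type*} [Group G] [Finite G] {L : Subgroup G} {a : G}
    {α : MulAut L} (hα : ∀ x : L, (α x : G) = a * x * a⁻¹)
    (hC : ∀ R : Sylow 2 ↥(L ⊓ Subgroup.centralizer ({a} : Set G)), IsCyclic R) : NoKlein α := by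
  intro x y hx hy x2 y2 hxy x1 y1
  have mk : ∀ z : L, α z = z → (z : G) ∈ L ⊓ Subgroup.centralizer ({a} : Set G) := fun z hz => by
    refine ⟨z.2, ?_⟩
    have := congrArg Subtype.val hz
    rw [hα, mul_inv_eq_iff_eq_mul] at this
    exact mem_centralizer_singleton_iff.2 this.symm
  let X : ↥(L ⊓ Subgroup.centralizer ({a} : Set G)) := ⟨x, mk x hx⟩
  let Y : ↥(L ⊓ Subgroup.centralizer ({a} : Set G)) := ⟨y, mk y hy⟩
  have hX : X * X = 1 := Subtype.ext (congrArg (fun z : L => (z : G)) x2)
  have hY : Y * Y = 1 := Subtype.ext (congrArg (fun z : L => (z : G)) y2)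
  have hXY : Commute X Y := Subtype.ext (congrArg (fun z : L => (z : G)) hxy)
  have hgrp : IsPGroup 2 (Subgroup.closure ({X, Y} : Set ↥(L ⊓ Subgroup.centralizer ({a} : Set G)))) := by
    intro z
    refine ⟨1, ?_⟩
    obtain ⟨z, hz⟩ := z
    apply Subtype.ext
    rw [pow_one, SubmonoidClass.coe_pow]
    show z ^ 2 = 1
    have : z ^ 2 = 1 ∧ Commute z X ∧ Commute z Y := by
      induction hz using Subgroup.closure_induction with
      | mem z hz =>
        rcases hz with rfl | rfl
        · exact ⟨by rw [pow_two, hX], Commute.refl _, hXY⟩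
        · exact ⟨by rw [pow_two, hY], hXY.symm, Commute.refl _⟩
      | one => exact ⟨one_pow 2, Commute.one_left _, Commute.one_left _⟩
      | mul u v hu hv hu' hv' =>
        refine ⟨?_, hu'.2.1.mul_left hv'.2.1, hu'.2.2.mul_left hv'.2.2⟩
        have huv : Commute u v := by
          clear hu'
          induction hu using Subgroup.closure_induction with
          | mem u hu =>
            rcases hu with rfl | rfl
            · exact hv'.2.1.symm
            · exact hv'.2.2.symm
          | one => exact Commute.one_left _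
          | mul a b _ _ ha hb => exact ha.mul_left hb
          | inv a _ ha => exact ha.inv_left
        rw [huv.mul_pow, hu'.1, hv'.1, mul_one]
      | inv u _ hu => exact ⟨by rw [inv_pow, hu.1, inv_one], hu.2.1.inv_left, hu.2.2.inv_left⟩
    exact this.1
  obtain ⟨P, hP⟩ := hgrp.exists_le_sylow
  have hcyc : IsCyclic P := hC P
  let X' : P := ⟨X, hP (Subgroup.subset_closure (Set.mem_insert _ _))⟩
  let Y' : P := ⟨Y, hP (Subgroup.subset_closure (Set.mem_insert_of_mem _ rfl))⟩
  have hX1 : X' ≠ 1 := fun h => x1 (Subtype.ext (congrArg (fun z : P => ((z : ↥(L ⊓ Subgroup.centralizer ({a} : Set G))) : G)) h))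
  have hY1 : Y' ≠ 1 := fun h => y1 (Subtype.ext (congrArg (fun z : P => ((z : ↥(L ⊓ Subgroup.centralizer ({a} : Set G))) : G)) h))
  have hXo : orderOf X' = 2 := orderOf_eq_prime (by rw [pow_two]; exact Subtype.ext hX) hX1
  have hYo : orderOf Y' = 2 := orderOf_eq_prime (by rw [pow_two]; exact Subtype.ext hY) hY1
  classical
  letI := Fintype.ofFinite P
  by_contra hne
  have hne' : X' ≠ Y' := fun h => hne (Subtype.ext
    (congrArg (fun z : P => ((z : ↥(L ⊓ Subgroup.centralizer ({a} : Set G))) : G)) h))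
  have hle := IsCyclic.card_pow_eq_one_le (α := P) (n := 2) two_pos
  have h3 : ({1, X', Y'} : Finset P).card = 3 := by
    rw [Finset.card_insert_of_notMem, Finset.card_insert_of_notMem, Finset.card_singleton]
    · simpa using hne'
    · simp [Ne.symm hX1, Ne.symm hY1]
  have hsub : ({1, X', Y'} : Finset P) ⊆ Finset.univ.filter fun z => z ^ 2 = 1 := by
    intro z hz
    simp only [Finset.mem_insert, Finset.mem_singleton] at hz
    have hX2 := pow_orderOf_eq_one X'
    have hY2 := pow_orderOf_eq_one Y'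
    rw [hXo] at hX2
    rw [hYo] at hY2
    rcases hz with rfl | rfl | rfl <;> simp [hX2, hY2]
  have := (Finset.card_le_card hsub).trans hle
  omega

/-- Statement S1916 from the Gorenstein–Walter theorem for simple groups. -/
theorem result_of_dihedralGW_pair (hGW : GWReduce.DihedralGW.{u}) {G : Type u} [Group G] [Finite G]
    (L : Subgroup G) (hL : IsSimpleGroup L) (hLn : ¬ IsMulCommutative L)
    (hD : ∀ P : Sylow 2 L, ∃ n : ℕ, Nonempty (↥(P : Subgroup L) ≃* DihedralGroup n))
    (a b : G) (ha : orderOf a = 2) (hb : orderOf b = 2) (hc : a * b = b * a)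
    (haL : a ∈ Subgroup.normalizer (L : Set G)) (hbL : b ∈ Subgroup.normalizer (L : Set G))
    (hCa : ∀ R : Sylow 2 ↥(L ⊓ Subgroup.centralizer ({a} : Set G)), IsCyclic R)
    (hCb : ∀ R : Sylow 2 ↥(L ⊓ Subgroup.centralizer ({b} : Set G)), IsCyclic R)
    (hgen : ¬ L ≤ Subgroup.closure ({a, b} : Set G) ⊔ (L ⊓ Subgroup.centralizer ({a} : Set G)) ⊔
      (L ⊓ Subgroup.centralizer ({b} : Set G))) :
    a * b ∈ Subgroup.centralizer (L : Set G) := by
  let t := Subgroup.normalizerMonoidHom L
  let A : normalizer (L : Set G) := ⟨a, haL⟩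
  let B : normalizer (L : Set G) := ⟨b, hbL⟩
  have hA : A * A = 1 := Subtype.ext (by
    show a * a = 1
    rw [← pow_two, ← ha, pow_orderOf_eq_one])
  have hB : B * B = 1 := Subtype.ext (by
    show b * b = 1
    rw [← pow_two, ← hb, pow_orderOf_eq_one])
  have hsub : fixS (t A) ⊔ fixS (t B) ≠ ⊤ := by
    intro htop
    refine hgen ?_
    have hle : ∀ (c : G) (hcL : c ∈ normalizer (L : Set G)),
        (fixS (t ⟨c, hcL⟩)).map L.subtype ≤ L ⊓ Subgroup.centralizer ({c} : Set G) := by
      rintro c hcL _ ⟨x, hx, rfl⟩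
      refine ⟨x.2, ?_⟩
      have := congrArg Subtype.val (mem_fixS.1 hx)
      change c * (x : G) * c⁻¹ = x at this
      rw [mul_inv_eq_iff_eq_mul] at this
      exact mem_centralizer_singleton_iff.2 this.symm
    calc L = (⊤ : Subgroup L).map L.subtype := by rw [← MonoidHom.range_eq_map, Subgroup.range_subtype]
      _ = (fixS (t A)).map L.subtype ⊔ (fixS (t B)).map L.subtype := by rw [← htop, Subgroup.map_sup]
      _ ≤ _ := sup_le ((hle a haL).trans (le_sup_right.trans le_sup_left)) ((hle b hbL).trans le_sup_right)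
  have h1 : t A * t B = 1 := by
    refine pair_of_dihedralGW hGW hL hLn hD ?_ ?_ ?_ (noKlein_of_cyclic (fun x => rfl) hCa)
      (noKlein_of_cyclic (fun x => rfl) hCb) hsub
    · rw [← map_mul, hA, map_one]
    · rw [← map_mul, hB, map_one]
    · rw [← map_mul, ← map_mul, show A * B = B * A from Subtype.ext hc]
  rw [mem_centralizer_iff]
  intro x hx
  rw [← map_mul] at h1
  have h2 := congrArg Subtype.val (MulEquiv.ext_iff.1 h1 ⟨x, hx⟩)
  change a * b * x * (a * b)⁻¹ = x at h2
  rw [mul_inv_eq_iff_eq_mul] at h2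
  exact h2.symm

end Cfsg.Agent.GWCons
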